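import Cfsg.Statements.S2219
import Cfsg.Agent.H3.NF
import Cfsg.Agent.H3.NM
import Cfsg.Agent.H3.NO

set_option autoImplicit false
open Cfsg

namespace Cfsg.Agent.S2219

/-- Let G be a non-abelian finite simple group of order 9·2ᵃ·qᵇ for a prime q other than 2 and 3, having at least three conjugacy classes of nonidentity 3-elements (elements of order 3 or 9). Then G is isomorphic to PSL(2,8) or to PSL(2,17). -/
theorem result {G : Type*} [Group G] [Finite G] [IsSimpleGroup G] (hG : ¬ IsMulCommutative G)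
    (q a b : ℕ) (hq : q.Prime) (hq2 : q ≠ 2) (hq3 : q ≠ 3) (hcard : Nat.card G = 9 * 2 ^ a * q ^ b)
    (h3 : 3 ≤ Nat.card {C : ConjClasses G // ∃ g ∈ C.carrier, g ≠ 1 ∧ orderOf g ∣ 9}) :
    (∃ (F : Type) (_ : Field F) (_ : Fintype F), Fintype.card F = 8 ∧
        Nonempty (G ≃* Matrix.ProjectiveSpecialLinearGroup (Fin 2) F)) ∨
      Nonempty (G ≃* Matrix.ProjectiveSpecialLinearGroup (Fin 2) (ZMod 17)) := by
  have := Fintype.ofFinite G
  have := Fact.mk hq
  obtain ⟨D⟩ := H3.NQ.exists_QD hG hq hq2 hq3 hcard (H3.NQ.exists_row hG h3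
    (hcard.trans (mul_assoc _ _ _)) (Nat.Coprime.mul_left (Nat.Coprime.pow_left _ (by norm_num))
      (Nat.Coprime.pow_left _ ((Nat.coprime_primes hq Nat.prime_three).2 hq3))))
  rcases D.key hG with h | ⟨rfl, h⟩ | ⟨rfl, h | h⟩ | h
  · obtain rfl := D.no52 hG h
    obtain ⟨rfl, h8⟩ := H3.NQ.case7 hG D h
    exact Or.inl (H3.NQ.rec504 hG D.card h8 fun g => H3.NQ.cent_gt hG D h)
  · exact (H3.NQ.no54 hG D h).elim
  · exact (H3.NQ.no174 hG D h).elim
  · obtain rfl := H3.NQ.case17 hG D h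
    exact Or.inr (H3.NQ.rec2448 D h)
  · exact (D.no9 hG h).elim

end Cfsg.Agent.S2219
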