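import Cfsg.Statements.S2272
import Cfsg.Agent.H4.SS

set_option autoImplicit false
open Cfsg

namespace Cfsg.Agent.S2272

open Cfsg.Agent.H4 Module

section
variable {F : Type*} [Field F] {V : Type*} [AddCommGroup V] [Module F V] [Module.Finite F V]

theorem exists_third (hV : 3 ≤ finrank F V) {v : V} (hv : v ≠ 0) (w : V) :
    ∃ φ : V →ₗ[F] F, φ ≠ 0 ∧ φ v = 0 ∧ φ w = 0 := by
  have h := span_sup_ne_top (P := Submodule.span F {v}) w (by rw [finrank_span_singleton hv]; omega)
  obtain ⟨z, hz⟩ : ∃ z, z ∉ Submodule.span F {v} ⊔ Submodule.span F {w} := by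
    simpa [Submodule.eq_top_iff'] using h
  obtain ⟨φ, a1, a2⟩ := exists_dual_one_zero hz
  exact ⟨φ, by rintro rfl; simp at a1, a2 _ (Submodule.mem_sup_left (Submodule.subset_span rfl)),
    a2 _ (Submodule.mem_sup_right (Submodule.subset_span rfl))⟩

theorem ssim_tv (B : End F V) {v : V} {φ : V →ₗ[F] F} (h : φ v = 0) :
    SSim B (B + φ.smulRight v * B - B * φ.smulRight v - φ (B v) • φ.smulRight v) := by
  refine ⟨1 + φ.smulRight v, by rw [det_one_add_smulRight', h, add_zero], LinearMap.ext fun w => ?_⟩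
  simp [h]
  module

theorem tr_mul (C : End F V) (v : V) (φ : V →ₗ[F] F) :
    LinearMap.trace F V (C * φ.smulRight v) = φ (C v) := by
  rw [show C * φ.smulRight v = φ.smulRight (C v) from LinearMap.ext fun w => by simp,
    LinearMap.trace_smulRight]

theorem tr_mul' (C : End F V) (v : V) (φ : V →ₗ[F] F) :
    LinearMap.trace F V (φ.smulRight v * C) = φ (C v) := by
  rw [LinearMap.trace_mul_comm, tr_mul]

theorem tr_tv (C B : End F V) (v : V) (φ : V →ₗ[F] F) :
    LinearMap.trace F V (C * (B + φ.smulRight v * B - B * φ.smulRight v - φ (B v) • φ.smulRight v))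
      = LinearMap.trace F V (C * B) + φ (B (C v)) - φ (C (B v)) - φ (B v) * φ (C v) := by
  rw [mul_sub, mul_sub, mul_add, map_sub, map_sub, map_add, mul_smul_comm, map_smul, tr_mul,
    ← mul_assoc, ← mul_assoc, tr_mul, LinearMap.trace_mul_comm _ (C * φ.smulRight v), ← mul_assoc,
    tr_mul]
  rfl

theorem nonconst (hV : 3 ≤ finrank F V) {B C : End F V} (hB : ∀ c : F, B ≠ c • 1)
    (hC : ∀ c : F, C ≠ c • 1) : ∃ B', SSim B B' ∧ LinearMap.trace F V (C * B') ≠ 0 := by
  by_contra hh
  push Not at hh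
  obtain ⟨v, hv, h1⟩ := exists_not_mem_span hC
  obtain ⟨φ, a1, a2⟩ := exists_dual_one_zero h1
  have a3 : φ v = 0 := a2 v (Submodule.subset_span rfl)
  obtain ⟨x, hx, h2⟩ := exists_not_mem_span hB
  obtain ⟨y, y1, y2⟩ : ∃ y, y ∉ Submodule.span F {v} ∧ φ y = 0 := by
    by_contra h3
    push Not at h3
    have h4 : LinearMap.ker φ ≤ Submodule.span F {v} := fun y hy => by
      by_contra h; exact h3 y h hy
    have h5 := Submodule.finrank_mono h4
    rw [finrank_span_singleton hv] at h5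
    have := finrank_ker_add_one a1
    omega
  obtain ⟨g, g1, g2, g3⟩ := exists_move_two hV hx h2 hv y1
  obtain ⟨g', -, k2, -⟩ := exists_inv_of_det_one g1
  have s1 := ssim_conj B g1 k2
  set B' := g * B * g' with hB'
  have e1 : B' v = y := by
    rw [hB', ← g2, ← g3]
    exact congrArg (fun t => g (B t)) (LinearMap.congr_fun k2 x)
  obtain ⟨ψ, b1, b2⟩ := exists_dual_one_zero y1
  have b3 : ψ v = 0 := b2 v (Submodule.subset_span rfl)
  have t0 := hh _ s1
  have t1 := hh _ (s1.trans (ssim_tv B' a3))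
  have t2 := hh _ (s1.trans (ssim_tv B' b3))
  have t3 := hh _ (s1.trans (ssim_tv B' (φ := φ + ψ) (v := v) (by simp [a3, b3])))
  rw [tr_tv, t0, e1] at t1 t2 t3
  simp only [LinearMap.add_apply, a1, b1, y2] at t1 t2 t3
  exact one_ne_zero (α := F) (by linear_combination t1 + t2 - t3)

theorem all_traces (hV : 3 ≤ finrank F V) {A B : End F V} (hA : ∀ c : F, A ≠ c • 1)
    (hB : ∀ c : F, B ≠ c • 1) (t : F) : ∃ B', SSim B B' ∧ LinearMap.trace F V (A * B') = t := by
  obtain ⟨v, hv, h1⟩ := exists_not_mem_span hA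
  obtain ⟨φ, p0, p1, p2⟩ := exists_third hV hv (A v)
  obtain ⟨B', s1, s2⟩ := nonconst hV hB (C := A * φ.smulRight v - φ.smulRight v * A) fun c hc => by
    obtain ⟨z, hz⟩ : ∃ z, φ z ≠ 0 := by
      by_contra h; push Not at h; exact p0 (LinearMap.ext h)
    have e1 := LinearMap.congr_fun hc v
    have e2 := LinearMap.congr_fun hc z
    simp [p1, p2] at e1
    obtain rfl : c = 0 := (smul_eq_zero.1 e1.symm).resolve_right hv
    simp [sub_eq_zero] at e2
    exact h1 (Submodule.mem_span_singleton.2 ⟨(φ z)⁻¹ * φ (A z), by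
      rw [mul_smul, ← e2, smul_smul, inv_mul_cancel₀ hz, one_smul]⟩)
  have e3 : LinearMap.trace F V ((A * φ.smulRight v - φ.smulRight v * A) * B') =
      φ (B' (A v)) - φ (A (B' v)) := by
    rw [sub_mul, map_sub, LinearMap.trace_mul_comm, ← mul_assoc, tr_mul, mul_assoc, tr_mul']
    rfl
  rw [e3] at s2
  refine ⟨_, s1.trans (ssim_tv B' (φ := ((t - LinearMap.trace F V (A * B')) /
    (φ (B' (A v)) - φ (A (B' v)))) • φ) (v := v) (by simp [p1])), ?_⟩
  rw [tr_tv]
  simp only [LinearMap.smul_apply, p2, smul_eq_mul]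
  field_simp
  ring

end

/-- Let F be a finite field and d ≥ 3, and let a, b be non-identity elements of PSL_d(F). Then the product of the conjugacy classes of a and b is not a single conjugacy class: there are conjugates a′ of a and b′ of b such that a′b′ is not conjugate to ab. -/
theorem result {F : Type*} [Field F] [Fintype F] (d : ℕ) (hd : 3 ≤ d)
    (a b : Matrix.ProjectiveSpecialLinearGroup (Fin d) F) (ha : a ≠ 1) (hb : b ≠ 1) :
    ∃ g h : Matrix.ProjectiveSpecialLinearGroup (Fin d) F, ¬ IsConj (a * b) (g * a * g⁻¹ * (h * b * h⁻¹)) := by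
  classical
  obtain ⟨a, rfl⟩ := QuotientGroup.mk_surjective a
  obtain ⟨b, rfl⟩ := QuotientGroup.mk_surjective b
  rw [Ne, QuotientGroup.eq_one_iff, mem_center_SL_iff, not_exists] at ha hb
  by_contra hh
  push Not at hh
  have key : ∀ t : F, ∃ c : F, c ≠ 0 ∧ t = c * LinearMap.trace F _
      (Matrix.toLin' ((a * b : Matrix.SpecialLinearGroup (Fin d) F) : Matrix (Fin d) (Fin d) F)) := by
    intro t
    obtain ⟨B', s1, s2⟩ := all_traces (V := Fin d → F) (by simpa) ha hb t
    obtain ⟨b', rfl⟩ := exists_SL_toLin' (f := B') (by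
      rw [← s1.sim.det_eq, LinearMap.det_toLin', b.det_coe])
    obtain ⟨h, rfl⟩ := isConj_iff.1 ((isConj_SL_iff_ssim _ _).2 s1)
    obtain ⟨k, hk⟩ := isConj_iff.1 (hh 1 h)
    obtain ⟨k, rfl⟩ := QuotientGroup.mk_surjective k
    have h1 : ((k * (a * b) * k⁻¹ : Matrix.SpecialLinearGroup (Fin d) F) :
        Matrix.ProjectiveSpecialLinearGroup (Fin d) F) =
          (a * (h * b * h⁻¹) : Matrix.SpecialLinearGroup (Fin d) F) := by
      simpa using hk
    rw [QuotientGroup.eq, mem_center_SL_iff] at h1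
    obtain ⟨c, hc⟩ := h1
    have h2 : Matrix.toLin' ((a * (h * b * h⁻¹) : Matrix.SpecialLinearGroup (Fin d) F) :
        Matrix (Fin d) (Fin d) F) = c • Matrix.toLin' ((k * (a * b) * k⁻¹ :
          Matrix.SpecialLinearGroup (Fin d) F) : Matrix (Fin d) (Fin d) F) := by
      rw [← mul_inv_cancel_left (k * (a * b) * k⁻¹) (a * (h * b * h⁻¹)),
        Matrix.SpecialLinearGroup.coe_mul (k * (a * b) * k⁻¹), Matrix.toLin'_mul, hc]
      exact LinearMap.ext fun v => by simp
    refine ⟨c, ?_, ?_⟩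
    · rintro rfl
      have := congrArg LinearMap.det h2
      have hne : Nonempty (Fin d) := ⟨⟨0, by omega⟩⟩
      rw [LinearMap.det_toLin', Matrix.SpecialLinearGroup.det_coe, zero_smul,
        LinearMap.det_zero''] at this
      exact one_ne_zero this
    · rw [← s2, Module.End.mul_eq_comp, ← Matrix.toLin'_mul, ← Matrix.SpecialLinearGroup.coe_mul,
        h2, map_smul, smul_eq_mul,
        (sim_of_isConj_SL (isConj_iff.2 ⟨k, rfl⟩ : IsConj (a * b) _)).trace_eq]
  obtain ⟨c, c0, hc⟩ := key 0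
  obtain ⟨c', -, hc'⟩ := key 1
  rw [(mul_eq_zero.1 hc.symm).resolve_left c0, mul_zero] at hc'
  exact one_ne_zero hc'

end Cfsg.Agent.S2272
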