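import Cfsg.Statements.S2332
import Cfsg.Agent.H1.SLMin

set_option autoImplicit false
open Cfsg

namespace Cfsg.Agent.S2332

theorem exists_pow_ne_one {F : Type*} [Field F] [Fintype F] (k : ℕ)
    (h : ¬ (Fintype.card F - 1) ∣ k) : ∃ a : F, a ≠ 0 ∧ a ^ k ≠ 1 := by
  classical
  obtain ⟨g, hg⟩ := IsCyclic.exists_ofOrder_eq_natCard (α := Fˣ)
  refine ⟨g, g.ne_zero, fun e => h ?_⟩
  rw [← Fintype.card_units, ← Nat.card_eq_fintype_card, ← hg]
  exact orderOf_dvd_of_pow_eq_one (Units.ext (by simpa using e))

/-- Smallest degree of a non-linear irreducible complex representation of SL_n over a finite field with q elements, for n ≥ 3 and (n, q) not one of (3, 2), (3, 4), (4, 2), (4, 3): every irreducible complex representation of SL_n(F) of degree at least 2 has degree at least (q^n − q)/(q − 1), and there is an irreducible complex representation of exactly that degree. -/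
theorem result {F : Type*} [Field F] [Fintype F] [DecidableEq F] (n : ℕ) (hn : 3 ≤ n)
    (hex : (n, Fintype.card F) ≠ (3, 2) ∧ (n, Fintype.card F) ≠ (3, 4) ∧ (n, Fintype.card F) ≠ (4, 2) ∧ (n, Fintype.card F) ≠ (4, 3)) :
    (∀ (k : ℕ) (ρ : Representation ℂ (Matrix.SpecialLinearGroup (Fin n) F) (Fin k → ℂ)), ρ.IsIrreducible → 2 ≤ k → (Fintype.card F ^ n - Fintype.card F) / (Fintype.card F - 1) ≤ k) ∧
    (∃ ρ : Representation ℂ (Matrix.SpecialLinearGroup (Fin n) F) (Fin ((Fintype.card F ^ n - Fintype.card F) / (Fintype.card F - 1)) → ℂ), ρ.IsIrreducible) := by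
  classical
  let e := Matrix.SpecialLinearGroup.toLin'_equiv (n := Fin n) (R := F)
  have hE : Module.finrank F (Fin n → F) = n := by simp
  have hq : 1 < Fintype.card F := Fintype.one_lt_card
  constructor
  · intro k ρ hρ hk
    have hirr : Representation.IsIrreducible (ρ.comp e.symm.toMonoidHom) := by
      have h1 := H1.IsIrrCharacter.comp_of_surjective (H1.isIrrCharacter_of_rep ρ hρ)
        e.symm.toMonoidHom e.symm.surjective
      have := H1.finite_SL (F := F) (E := Fin n → F)
      have := Fintype.ofFinite (SpecialLinearGroup F (Fin n → F))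
      exact H1.isIrreducible_of_classInner _ (H1.IsIrrCharacter.classInner_self h1)
    have := H1.SL_min_degree (ρ.comp e.symm.toMonoidHom) hirr (by simpa using hk) (by omega)
      (fun h => exists_pow_ne_one 3 fun hd => by
        rw [hE] at h
        subst h
        have h1 := Nat.le_of_dvd (by norm_num) hd
        obtain ⟨h2, h3, -⟩ := hex
        simp only [ne_eq, Prod.mk.injEq, true_and] at h2 h3
        have : Fintype.card F = 3 := by omega
        rw [this] at hd
        norm_num at hd)
      (fun h => exists_pow_ne_one 2 fun hd => by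
        rw [hE] at h
        subst h
        have h1 := Nat.le_of_dvd (by norm_num) hd
        obtain ⟨-, -, h2, h3⟩ := hex
        simp only [ne_eq, Prod.mk.injEq, true_and] at h2 h3
        omega)
    rw [hE] at this
    simp only [Module.finrank_fin_fun] at this
    exact Nat.div_le_of_le_mul this
  · let σ : Matrix.SpecialLinearGroup (Fin n) F →* Module.End F (Fin n → F) :=
      H1.slAct.comp e.toMonoidHom
    obtain ⟨χ, h1, -, -, -, i, hi⟩ := H1.permVec σ (by omega)
      (fun v v' hv hv' => by
        obtain ⟨g, hg⟩ := H1.exists_move_one (F := F) (by omega) hv hv'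
        exact ⟨e.symm g, by simpa [σ] using hg⟩)
      (fun x y y' hy hy' => by
        obtain ⟨g, hg⟩ := H1.exists_move_two (F := F) (by omega) x hy hy'
        exact ⟨e.symm g, by simpa [σ] using hg⟩)
    obtain ⟨k, ρ, hρ, hk⟩ := h1 i
    rw [← hk, Representation.char_one, Module.finrank_fin_fun, Fintype.card_fun, Fintype.card_fin,
      eq_sub_iff_add_eq] at hi
    have h2 : (Fintype.card F - 1) * k + Fintype.card F = Fintype.card F ^ n := by
      have : (((Fintype.card F - 1) * k + Fintype.card F : ℕ) : ℂ) = ((Fintype.card F ^ n : ℕ) : ℂ) := by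
        rw [← hi, Nat.cast_add, Nat.cast_mul, Nat.cast_sub hq.le, Nat.cast_one]
      exact_mod_cast this
    have : (Fintype.card F ^ n - Fintype.card F) / (Fintype.card F - 1) = k := by
      rw [← h2, Nat.add_sub_cancel, Nat.mul_div_cancel_left _ (by omega)]
    rw [this]
    exact ⟨ρ, hρ⟩

end Cfsg.Agent.S2332
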