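import Cfsg.Statements.S2140
import Cfsg.Agent.H4.MinIdx
import Cfsg.Agent.H4.GLOrd
import Cfsg.Agent.S2332

set_option autoImplicit false
open Cfsg

namespace Cfsg.Agent.S2140

open Cfsg.Agent.H1 Cfsg.Agent.H4 Module MulAction

theorem card_SL' {F : Type*} [Field F] [Fintype F] (n : ℕ) (hn : 1 ≤ n) :
    Nat.card (SpecialLinearGroup F (Fin n → F)) * (Fintype.card F - 1) =
      ∏ i : Fin n, (Fintype.card F ^ n - Fintype.card F ^ (i : ℕ)) := by
  classical
  have : Nonempty (Fin n) := ⟨⟨0, by omega⟩⟩
  rw [← Matrix.card_GL_field, ← card_SL_mul,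
    Nat.card_congr (Matrix.SpecialLinearGroup.toLin'_equiv (n := Fin n) (R := F)).toEquiv]

theorem two_eq_zero {F : Type*} [Field F] [Fintype F] (h : 2 ∣ Fintype.card F) : (2 : F) = 0 := by
  classical
  have := (prime_dvd_char_iff_dvd_card (R := F) 2).mpr h
  have h2 : (ringChar F).Prime := CharP.char_is_prime F _
  have h3 := (Nat.prime_dvd_prime_iff_eq Nat.prime_two h2).mp this
  have := ringChar.Nat.cast_ringChar (R := F)
  rw [← h3] at this
  exact_mod_cast this

theorem main {F : Type*} [Field F] [Fintype F] (n : ℕ) (hn : 3 ≤ n)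
    (hexc : ¬ (n = 4 ∧ Fintype.card F = 2)) {X : Type*} [Finite X]
    [MulAction (SpecialLinearGroup F (Fin n → F)) X]
    [IsPretransitive (SpecialLinearGroup F (Fin n → F)) X] (h2 : 2 ≤ Nat.card X) :
    (Fintype.card F ^ n - 1) / (Fintype.card F - 1) ≤ Nat.card X := by
  classical
  have := finite_SL (F := F) (E := Fin n → F)
  have hE : finrank F (Fin n → F) = n := by simp
  have hq : 1 < Fintype.card F := Fintype.one_lt_card
  have hge := card_ge_pow (F := F) (E := Fin n → F) (X := X) h2 (by omega)
  have hpc := (perm_cases (G := SpecialLinearGroup F (Fin n → F)) h2 _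
    (fun χ hχ hne m hm => irr_deg_ge (by omega) hχ hne m hm)).2
  have hG := card_SL' (F := F) n (by omega)
  rw [hE] at hge hpc
  by_cases h32 : n = 3 ∧ Fintype.card F = 2
  · obtain ⟨rfl, hF⟩ := h32
    simp only [hF, Fin.prod_univ_three] at hG hge hpc ⊢
    norm_num at hG hge hpc ⊢
    by_contra hc
    have h4 : Nat.card X = 4 := by
      rw [hG] at hpc
      generalize Nat.card X = k at *
      push Not at hc
      interval_cases k <;> simp_all
    exact not_card_three_two (X := X) hE (two_eq_zero (by rw [hF])) (by rw [h4, hF]; norm_num)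
      (by rw [h4, hG]; norm_num)
  by_cases h34 : n = 3 ∧ Fintype.card F = 4
  · obtain ⟨rfl, hF⟩ := h34
    simp only [hF, Fin.prod_univ_three] at hG hge hpc ⊢
    norm_num at hG hge hpc ⊢
    have hG' : Nat.card (SpecialLinearGroup F (Fin 3 → F)) = 60480 := by omega
    by_contra hc
    have h4 : Nat.card X = 16 := by
      rw [hG'] at hpc
      generalize Nat.card X = k at *
      push Not at hc
      interval_cases k <;> simp_all
    exact not_card_three_two (X := X) hE (two_eq_zero (by rw [hF]; norm_num))
      (by rw [h4, hF]; norm_num) (by rw [h4, hG']; norm_num)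
  by_cases h43 : n = 4 ∧ Fintype.card F = 3
  · obtain ⟨rfl, hF⟩ := h43
    simp only [hF, Fin.prod_univ_four] at hG hge hpc ⊢
    norm_num at hG hge hpc ⊢
    have hG' : Nat.card (SpecialLinearGroup F (Fin 4 → F)) = 12130560 := by omega
    by_contra hc
    have h4 : Nat.card X = 27 := by
      rw [hG'] at hpc
      generalize Nat.card X = k at *
      push Not at hc
      interval_cases k <;> simp_all
    exact not_card_four_three hF h4
  have h5 := (perm_cases (G := SpecialLinearGroup F (Fin n → F)) h2
    ((Fintype.card F ^ n - Fintype.card F) / (Fintype.card F - 1))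
    (fun χ hχ hne m hm => by
      have h6 := irr_deg_ge (by omega) hχ hne m hm
      rw [hE] at h6
      have h7 : 2 ^ 2 ≤ Fintype.card F ^ (n - 1) :=
        (Nat.pow_le_pow_left hq 2).trans (Nat.pow_le_pow_right (by omega) (by omega))
      obtain ⟨k, ρ, hρ, rfl⟩ := hχ
      have hk : k = m := by simpa using hm
      subst hk
      have := SL_min_degree ρ hρ (by simp; omega) (by omega)
        (fun h => S2332.exists_pow_ne_one 3 fun hd => by
          rw [hE] at h
          have h1 := Nat.le_of_dvd (by norm_num) hd
          have : Fintype.card F = 3 := by omega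
          rw [this] at hd
          norm_num at hd)
        (fun h => S2332.exists_pow_ne_one 2 fun hd => by
          rw [hE] at h
          have h1 := Nat.le_of_dvd (by norm_num) hd
          omega)
      rw [hE] at this
      simp only [Module.finrank_fin_fun] at this
      exact Nat.div_le_of_le_mul this)).1
  have h8 : Fintype.card F ≤ Fintype.card F ^ n := Nat.le_self_pow (by omega) _
  have h9 : Fintype.card F ^ n - 1 = (Fintype.card F ^ n - Fintype.card F) + (Fintype.card F - 1) := by
    omega
  rw [h9, Nat.add_div_right _ (by omega)]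
  exact h5

/-- Minimal index of a proper subgroup of the linear groups: for n ≥ 3 and a field F with q elements, (n, q) ≠ (4, 2), every proper subgroup of PSL_n(F) has index at least (q^n − 1)/(q − 1), and some subgroup has exactly that index (the stabiliser of a point of the projective space). -/
theorem result {F : Type*} [Field F] [Fintype F] {q : ℕ} (hF : Fintype.card F = q) (n : ℕ) (hn : 3 ≤ n) (hexc : ¬ (n = 4 ∧ q = 2)) : (∀ H : Subgroup (Matrix.ProjectiveSpecialLinearGroup (Fin n) F), H ≠ ⊤ → (q ^ n - 1) / (q - 1) ≤ H.index) ∧ (∃ H : Subgroup (Matrix.ProjectiveSpecialLinearGroup (Fin n) F), H.index = (q ^ n - 1) / (q - 1)) := by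
  classical
  subst hF
  have hq : 1 < Fintype.card F := Fintype.one_lt_card
  constructor
  · intro H hH
    let e := Matrix.SpecialLinearGroup.toLin'_equiv (n := Fin n) (R := F)
    let φ : SpecialLinearGroup F (Fin n → F) →* Matrix.ProjectiveSpecialLinearGroup (Fin n) F :=
      (QuotientGroup.mk' _).comp e.symm.toMonoidHom
    have hφ : Function.Surjective φ := (QuotientGroup.mk'_surjective _).comp e.symm.surjective
    let _ : MulAction (SpecialLinearGroup F (Fin n → F))
      (Matrix.ProjectiveSpecialLinearGroup (Fin n) F ⧸ H) := MulAction.compHom _ φ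
    have : IsPretransitive (SpecialLinearGroup F (Fin n → F))
        (Matrix.ProjectiveSpecialLinearGroup (Fin n) F ⧸ H) := ⟨fun x y => by
      obtain ⟨g, hg⟩ := exists_smul_eq (Matrix.ProjectiveSpecialLinearGroup (Fin n) F) x y
      obtain ⟨g', rfl⟩ := hφ g
      exact ⟨g', hg⟩⟩
    refine main n hn hexc (X := Matrix.ProjectiveSpecialLinearGroup (Fin n) F ⧸ H) ?_
    have h1 : H.index ≠ 1 := fun h => hH (Subgroup.index_eq_one.mp h)
    have h0 : H.index ≠ 0 := Subgroup.index_ne_zero_of_finite
    change 2 ≤ H.index
    omega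
  · let v : Fin n → F := fun _ => 1
    have hv : v ≠ 0 := fun h => one_ne_zero (congrFun h ⟨0, by omega⟩)
    refine ⟨stabilizer _ (Projectivization.mk F v hv), ?_⟩
    rw [index_stabilizer_of_transitive, Projectivization.card'', Nat.card_fun,
      Nat.card_eq_fintype_card (α := F)]
    simp

end Cfsg.Agent.S2140
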