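import Cfsg.Statements.S2251
import Cfsg.Agent.H2.SzClass2

set_option autoImplicit false
open Cfsg

namespace Cfsg.Agent.S2251

/-- The subgroups of the Suzuki group: with q = 2^(2m+1), m ≥ 1, r = 2^m and the group realised as the stabiliser in SL₄ of the Suzuki–Tits ovoid, every proper subgroup is contained in the normalizer of a Sylow 2-subgroup, or in the normalizer of a cyclic subgroup of order q − 1, q + 2r + 1 or q − 2r + 1, or in a subgroup isomorphic to a smaller Suzuki group Sz(s) with s = 2^(2k+1) ≥ 8 and 2k+1 a proper divisor of 2m+1. -/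
theorem result {F : Type*} [Field F] [Fintype F] {m : ℕ} (hm : 1 ≤ m) (hF : Fintype.card F = 2 ^ (2 * m + 1)) (M : Subgroup ↥(Cfsg.Sz F m)) (hM : M ≠ ⊤) :
    (∃ P : Sylow 2 ↥(Cfsg.Sz F m), M ≤ Subgroup.normalizer ((P : Subgroup ↥(Cfsg.Sz F m)) : Set ↥(Cfsg.Sz F m))) ∨
    (∃ U : Subgroup ↥(Cfsg.Sz F m), IsCyclic ↥U ∧ Nat.card ↥U ∈ ({2 ^ (2 * m + 1) - 1, 2 ^ (2 * m + 1) + 2 ^ (m + 1) + 1, 2 ^ (2 * m + 1) - 2 ^ (m + 1) + 1} : Set ℕ) ∧
      M ≤ Subgroup.normalizer (U : Set ↥(Cfsg.Sz F m))) ∨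
    (∃ (K : Type) (_ : Field K) (_ : Fintype K) (k : ℕ), 1 ≤ k ∧ k < m ∧ Fintype.card K = 2 ^ (2 * k + 1) ∧ 2 * k + 1 ∣ 2 * m + 1 ∧
      ∃ S : Subgroup ↥(Cfsg.Sz F m), Nonempty (↥S ≃* ↥(Cfsg.Sz K k)) ∧ M ≤ S) := by
  open Cfsg.Agent.H2 Cfsg.Agent.H2.Suz in
  have := SzF.of_fintype hm hF
  rcases subgroup_cases M with ⟨p, hp⟩ | ⟨x, hx, h⟩ | ⟨K, x, hy, h⟩
  · exact Or.inl ⟨sylQ p, by rw [coe_sylQ, normalizer_Qp]; exact hp⟩
  · exact Or.inr (Or.inl ⟨Cen x, (odd_elt hx).1, (odd_elt hx).2.1, h⟩)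
  · obtain ⟨k, hk, hd, hK⟩ := subfield_card (m := m) K hy
    have := SzF_galois (F := F) (m := m) hk
    obtain ⟨e⟩ := SzK_equiv (m := m) K (K' := GaloisField 2 (2 * k + 1)) hK
    refine Or.inr (Or.inr ⟨GaloisField 2 (2 * k + 1), inferInstance, Fintype.ofFinite _, k, hk, ?_, ?_, hd, M,
      ⟨((conjSEquiv x M).trans (MulEquiv.subgroupCongr h)).trans e⟩, le_rfl⟩)
    · have h1 := Nat.le_of_dvd (by omega) hd
      by_contra h2
      obtain rfl : k = m := by omega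
      have h3 : K = ⊤ := subfield_eq_of_card (by
        rw [hK, ← SzF.card (F := F) (m := k)]
        exact (Nat.card_congr Subfield.topEquiv.toEquiv).symm)
      rw [h3, SzK_top] at h
      apply hM
      rw [← conjS_one M, ← inv_mul_cancel x, ← conjS_conjS, h, conjS_top]
    · exact (@Nat.card_eq_fintype_card _ (Fintype.ofFinite _)).symm.trans (GaloisField.card 2 _ (by omega))

end Cfsg.Agent.S2251
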