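import Cfsg.Statements.S2241
import Cfsg.Agent.H2.SzStruct

set_option autoImplicit false
open Cfsg

namespace Cfsg.Agent.S2241

/-- Real 2-elements of the Suzuki group: with q = 2^(2m+1), m ≥ 1, and the group realised as the stabiliser in SL₄ of the Suzuki–Tits ovoid, a non-identity element of a Sylow 2-subgroup is conjugate to its inverse if and only if it is an involution; in particular no element of order 4 is conjugate to its inverse. -/
theorem result {F : Type*} [Field F] [Fintype F] {m : ℕ} (hm : 1 ≤ m) (hF : Fintype.card F = 2 ^ (2 * m + 1)) (P : Sylow 2 ↥(Cfsg.Sz F m)) (g : ↥(Cfsg.Sz F m)) (hg : g ∈ (P : Subgroup ↥(Cfsg.Sz F m))) (h1 : g ≠ 1) :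
    IsConj g g⁻¹ ↔ orderOf g = 2 := by
  haveI := H2.SzF.of_fintype hm hF
  have h2 := H2.Suz.two_eq_zero F m
  constructor
  · intro hc
    obtain ⟨p, hp⟩ := H2.Suz.sylow_eq_Qp P
    rw [hp] at hg
    obtain ⟨x, hx⟩ := isConj_iff.1 hc
    have hxp : x • p = p := by
      have h3 := H2.Suz.conj_mem_Qp_smul x hg
      rw [hx] at h3
      exact H2.Suz.Qp_eq_of_mem h3 (inv_mem hg) (by simpa using h1)
    obtain ⟨t, rfl⟩ := H2.Suz.exists_smul_inf_eq p
    obtain ⟨a, b, hab⟩ := H2.Suz.mem_Qp_inf.1 (H2.Suz.mem_Qp_smul.1 hg)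
    obtain ⟨c, d, k, hk⟩ := (H2.Suz.fix_inf_iff (g := t⁻¹ * x * t)).1
      (by rw [mul_smul, mul_smul, hxp, inv_smul_smul])
    have hc' : (t⁻¹ * x * t) * (t⁻¹ * g * t) = (t⁻¹ * g * t)⁻¹ * (t⁻¹ * x * t) := by
      calc (t⁻¹ * x * t) * (t⁻¹ * g * t) = t⁻¹ * (x * g * x⁻¹) * x * t := by group
        _ = t⁻¹ * g⁻¹ * x * t := by rw [hx]
        _ = _ := by group
    rw [hab, hk, H2.Suz.u_inv, mul_assoc, H2.Suz.h_mul_u, ← mul_assoc, ← mul_assoc, H2.Suz.u_mul,
      H2.Suz.u_mul] at hc'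
    obtain ⟨e1, e2, -⟩ := H2.Suz.uh_inj hc'
    have ha : a = 0 := by
      by_contra ha
      have hk1 : H2.Suz.th m (k : F) = 1 := by
        apply mul_right_cancel₀ ha
        linear_combination e1
      have hk2 : (k : F) = 1 := H2.Suz.th_eq_one hk1
      rw [hk1, hk2] at e2
      have hta := H2.Suz.th_ne_zero m ha
      have e3 : H2.Suz.th m (c / a) = c / a + 1 := by
        rw [H2.Suz.th_div]
        field_simp
        linear_combination e2
      have e4 := H2.Suz.th_th m (c / a)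
      rw [e3, H2.Suz.th_add, e3, H2.Suz.th_one] at e4
      have e5 : c / a * (c / a - 1) = 0 := by linear_combination -e4 + h2
      rcases mul_eq_zero.1 e5 with e6 | e6
      · rw [e6] at e3; simp at e3
      · rw [sub_eq_zero.1 e6, H2.Suz.th_one] at e3
        simp at e3
    apply orderOf_eq_prime _ h1
    have : g = t * (t⁻¹ * g * t) * t⁻¹ := by group
    rw [this, conj_pow, hab, H2.Suz.u_sq_eq_one_iff.2 ha]; group
  · intro h
    have : g⁻¹ = g := by
      rw [inv_eq_iff_mul_eq_one, ← sq, ← h, pow_orderOf_eq_one]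
    rw [this]

end Cfsg.Agent.S2241
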