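import Cfsg.Agent.H9.OutRu
import Cfsg.Statements.S2077
-- import your own Cfsg.Agent.* helpers here

set_option autoImplicit false
open Cfsg

namespace Cfsg.Agent.S2077

/-- The outer automorphism group of the Rudvalis group (the unitary automorphism group of the rank-28 Gaussian lattice modulo its centre) is trivial: every automorphism is inner. -/
theorem result : Nat.card (Cfsg.Out Cfsg.Spor.Ru) = 1 :=
  Cfsg.Agent.H9.OutRu.card_out

end Cfsg.Agent.S2077
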