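import Cfsg.Statements.S2193
import Cfsg.Agent.S2363
import Cfsg.Agent.H7.TT8
import Cfsg.Agent.H7.TT9
import Cfsg.Agent.H7.TT13
import Cfsg.Agent.H8.Y.TL5
import Cfsg.Agent.H5.TR1
import Cfsg.Agent.H5.TR2
import Cfsg.Agent.H2.TO6
import Cfsg.Agent.H3.TF3
import Cfsg.Agent.H3.TG6
import Cfsg.Agent.H3.TG8
import Cfsg.Agent.H3.TG9
import Cfsg.Agent.H8.TE4
import Cfsg.Agent.H8.LiftTabE6
import Cfsg.Agent.H8.LiftTabE7
import Cfsg.Agent.H8.LiftTabE8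

set_option autoImplicit false
open Cfsg

namespace Cfsg.Agent.S2193

/-- The faithful 2-transitive permutation representations of the finite simple groups of Lie type. Let G be a finite simple group of Lie type (isomorphic to a member of one of the sixteen families over a finite field, the Tits group excepted) acting faithfully and 2-transitively on a finite set Ω. Then one of the following holds: G ≅ PSL_l(F) with l ≥ 3 and Ω has (|F|^l − 1)/(|F| − 1) points; G ≅ PSL₂(F) with |F| ≥ 4 and Ω has |F| + 1 points; G ≅ PSU₃(q), q ≥ 3, and Ω has q³ + 1 points; G is a Suzuki group Sz(q), q = 2^(2m+1) ≥ 8, and Ω has q² + 1 points; G is a Ree group ²G₂(q), q = 3^(2m+1) ≥ 27, and Ω has q³ + 1 points; G ≅ PSL₂(9) and Ω has 6 points; G ≅ PSL₂(11) and Ω has 11 points; G ≅ PSL₄(2) and Ω has 8 points; or G ≅ PSp_{2n}(2) with n ≥ 3 and Ω has 2^(n−1)(2^n + 1) or 2^(n−1)(2^n − 1)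 points. -/
theorem result {G Ω : Type*} [Group G] [Finite G] [MulAction G Ω] [FaithfulSMul G Ω] [Fintype Ω] (r : ℕ) [Fact r.Prime] (hG : Cfsg.IsLieTypeChar r G) (h2 : MulAction.IsMultiplyPretransitive G Ω 2) :
    (∃ (F : Type) (_ : Field F) (_ : Fintype F) (l : ℕ), 3 ≤ l ∧ Nonempty (G ≃* Matrix.ProjectiveSpecialLinearGroup (Fin l) F) ∧ Fintype.card Ω * (Fintype.card F - 1) = Fintype.card F ^ l - 1) ∨
    (∃ (F : Type) (_ : Field F) (_ : Fintype F), 4 ≤ Fintype.card F ∧ Nonempty (G ≃* Matrix.ProjectiveSpecialLinearGroup (Fin 2) F) ∧ Fintype.card Ω = Fintype.card F + 1) ∨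
    (∃ (F : Type) (_ : Field F) (_ : Fintype F) (q : ℕ), 3 ≤ q ∧ Fintype.card F = q ^ 2 ∧ Nonempty (G ≃* Cfsg.PSU 3 F q) ∧ Fintype.card Ω = q ^ 3 + 1) ∨
    (∃ (F : Type) (_ : Field F) (_ : Fintype F) (m : ℕ), 1 ≤ m ∧ Fintype.card F = 2 ^ (2 * m + 1) ∧ Nonempty (G ≃* ↥(Cfsg.Lie.Sz F (2 ^ (m + 1)))) ∧ Fintype.card Ω = Fintype.card F ^ 2 + 1) ∨
    (∃ (K : Type) (_ : Field K) (_ : Fintype K) (m : ℕ), 1 ≤ m ∧ Fintype.card K = 3 ^ (2 * m + 1) ∧ Nonempty (G ≃* ↥(Cfsg.Lie.twistedG2 K (3 ^ m))) ∧ Fintype.card Ω = Fintype.card K ^ 3 + 1) ∨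
    (∃ (F : Type) (_ : Field F) (_ : Fintype F), Fintype.card F = 9 ∧ Nonempty (G ≃* Matrix.ProjectiveSpecialLinearGroup (Fin 2) F) ∧ Fintype.card Ω = 6) ∨
    (∃ (F : Type) (_ : Field F) (_ : Fintype F), Fintype.card F = 11 ∧ Nonempty (G ≃* Matrix.ProjectiveSpecialLinearGroup (Fin 2) F) ∧ Fintype.card Ω = 11) ∨
    (∃ (F : Type) (_ : Field F) (_ : Fintype F), Fintype.card F = 2 ∧ Nonempty (G ≃* Matrix.ProjectiveSpecialLinearGroup (Fin 4) F) ∧ Fintype.card Ω = 8) ∨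
    (∃ (F : Type) (_ : Field F) (_ : Fintype F) (n : ℕ), 3 ≤ n ∧ Fintype.card F = 2 ∧ Nonempty (G ≃* Cfsg.PSp n F) ∧ (Fintype.card Ω = 2 ^ (n - 1) * (2 ^ n + 1) ∨ Fintype.card Ω = 2 ^ (n - 1) * (2 ^ n - 1))) := by
  have : Nontrivial G := not_subsingleton_iff_nontrivial.1 fun _ => by
    simpa [Nat.card_unique] using (S2363.result r Fact.out hG).1
  have ht := H7.TT.of_mul h2
  have key : ∀ {H : Type} [Group H], G ≃* H → (∀ [MulAction H Ω] [FaithfulSMul H Ω], H7.TT H Ω →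
      H7.TTConcl H (Nat.card Ω)) → H7.TTConcl G (Fintype.card Ω) := fun {H} _ e h => by
    let _ := MulAction.compHom Ω e.symm.toMonoidHom
    have := H7.faithful_comp (Ω := Ω) e.symm.toMonoidHom e.symm.injective
    exact Nat.card_eq_fintype_card (α := Ω) ▸ (h (ht.comp _ e.symm.surjective)).congr e
  rcases hG with ⟨F, _, _, _, n, hn, h, ⟨e⟩⟩ | ⟨F, _, _, _, m, hm, h, ⟨e⟩⟩ | ⟨F, _, _, _, n, q, hF, hn, h, ⟨e⟩⟩ |
    ⟨F, _, _, _, m, hm, h, ⟨e⟩⟩ | ⟨F, _, _, _, m, hm, ⟨e⟩⟩ | ⟨F, _, _, _, m, a, b, hm, h, ⟨e⟩⟩ |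
    ⟨F, _, _, _, ⟨h, ⟨e⟩⟩ | ⟨⟨e⟩⟩ | ⟨⟨e⟩⟩ | ⟨⟨e⟩⟩ | ⟨⟨e⟩⟩⟩ | ⟨F, _, _, _, q, -, ⟨h, ⟨e⟩⟩ | ⟨h, ⟨e⟩⟩⟩ |
    ⟨rfl, F, _, _, m, hm, h, ⟨e⟩⟩ | ⟨rfl, F, _, _, m, hm, h, ⟨e⟩⟩ | ⟨rfl, F, _, _, m, hm, h, ⟨e⟩⟩
  · exact key e (H8Y.pieceL hn h)
  · exact key e (H7.tt_sp hm h)
  · exact key e (H7.tt_su hF hn h)
  · exact key e fun k => (H2.TO.pieceO_odd hm h k).elim
  · exact key e fun k => (H2.TO.pieceO_plus hm k).elim
  · exact key e fun k => (H2.TO.pieceO_minus hm a b h k).elim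
  · exact key e fun k => (H8.pieceG h k (H7.hU_G2 k) fun h' => H7.hB_G2 (by omega) k).elim
  · exact key e fun k => (H8.pieceF k (H7.hU_F4 k) fun h' =>
      H7.hB_F4 (lt_of_le_of_ne Fintype.one_lt_card h'.symm) k).elim
  · exact key e fun k => (H3.TG.pieceU6 k (H7.hB_sl H8.tablesE6 (by decide +kernel) (c := H8.ocE6) (by decide +kernel) k)).elim
  · exact key e fun k => (H3.TG.pieceU7 k (H7.hB_sl H8.tablesE7 (by decide +kernel) (c := H8.ocE7) (by decide +kernel) k)).elim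
  · exact key e fun k => (H3.TG.pieceU8 k (H7.hB_sl H8.tablesE8 (by decide +kernel) (c := H8.ocE8) (by decide +kernel) k)).elim
  · exact key (e.trans (H8.twEquiv _).symm) fun k => (H3.TG.pieceE6 h k (H7.hB_2E6 h k)).elim
  · exact key (e.trans (H8.twEquiv _).symm) fun k => (H3.TG.pieceD4 h k (H7.hB_3D4 h k)).elim
  · exact key e (H5.pieceR_sz hm h)
  · exact key (e.trans (H8.twEquiv _).symm) fun k => (H3.TF.pieceT hm h k (H7.hB_2F4 hm h k)).elim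
  · exact key e (H5.pieceR_ree hm h)

end Cfsg.Agent.S2193
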