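import Cfsg.Statements.S2194
import Cfsg.Agent.H2.PLk
import Cfsg.Agent.H2.PLm
import Cfsg.Agent.L0.RY.W2

set_option autoImplicit false
open Cfsg

namespace Cfsg.Agent.S2194

open MulAction Module Cfsg.Agent.H1 Cfsg.Agent.H2.PL in
open scoped Pointwise in
theorem main {F : Type*} [Field F] {V : Type*} [AddCommGroup V] [Module F V] [FiniteDimensional F V] [Fintype F]
    {X : Type*} [Fintype X] [MulAction (SpecialLinearGroup F V) X] {x : X} (hn : 5 ≤ finrank F V)
    (R : RK (SpecialLinearGroup F V) x) : Fintype.card X * (Fintype.card F + 1) =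
      br (Fintype.card F) (finrank F V) * br (Fintype.card F) (finrank F V - 1) := by
  have : Finite V := Module.finite_of_finite F
  have : Finite (Dual F V) := Module.finite_of_finite F
  have : Finite (Submodule F V) := Finite.of_injective _ SetLike.coe_injective
  have : Finite (SpecialLinearGroup F V) := Finite.of_injective (fun g (v : V) => g • v) fun _ _ e => g_ext (congrFun e)
  have := Fintype.ofFinite V
  have := Fintype.ofFinite (Dual F V)
  have := Fintype.ofFinite (Submodule F V)
  have := Fintype.ofFinite (SpecialLinearGroup F V)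
  rcases main_cases hn R with h | ⟨h1, h2, h3⟩ | ⟨h1, h2⟩
  · exact h
  · exact (case1 (by omega) R h1 h2 h3).elim
  have h3 : ∀ (w : V) (f : Dual F V), w ≠ 0 → f ≠ 0 → f w = 0 → tv w f • x ≠ x := fun w f =>
    pieceC hn R fun v w hv hw => by
      obtain ⟨h, a1, a2⟩ := sm_pt.1 (tr_of_ro h1.le (pt w hw) (pt v hv))
      obtain ⟨c, a3⟩ := Submodule.mem_span_singleton.1 a2
      exact ⟨h⁻¹, c, inv_smul_eq_iff.2 a1.symm, left_ne_zero_of_smul (a3 ▸ (smul_ne_zero_iff_ne h).2 hw),
        by rw [← g_smul, a3, inv_smul_smul]⟩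
  have h4 := h2 fun t ht => by
    obtain ⟨w, f, a1, a2, a3, rfl⟩ := mem_DD.1 ht
    exact h3 w f a1 a2 a3
  have hY : NoY F V x := fun g hg l hl h => L0.RY.pieceY hn (stabilizer _ x) h3 (fun p l p' l' a1 a2 a3 a4 a5 a6 => by
    obtain ⟨k, b1, b2⟩ := tr_of_ro h4.le ⟨(p, l), a3, a1, a2⟩ ⟨(p', l'), a6, a4, a5⟩
    exact ⟨k, b1, Fl_smul_eq.1 b2⟩) hg hl h
  refine (hY.false hn R (fun U U' a1 a2 => ?_) fun r d a1 a2 a3 a4 => L0.RY.pieceW R hY a1 a2 a3 a4).elim
  obtain ⟨k, b1, b2⟩ := tr_of_ro h1.le ⟨(U, U), le_rfl, a1, a1⟩ ⟨(U', U'), le_rfl, a2, a2⟩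
  exact ⟨k, b1, (Fl_smul_eq.1 b2).1⟩

/-- Primitive rank 3 actions of the projective special linear groups in dimension at least 5. Let G ≅ PSL_n(F), n ≥ 5, F a finite field with q elements, act faithfully and primitively on a finite set X so that a point stabilizer has exactly three orbits on X. Then X has as many points as there are 2-dimensional subspaces of F^n: |X|·(q² − 1)(q − 1) = (q^n − 1)(q^(n−1) − 1). (The action is in fact the one on the lines of the projective space, or on its subspaces of dimension n − 2; only the number of points is asserted here.) -/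
theorem result {G X : Type*} [Group G] [Finite G] [MulAction G X] [FaithfulSMul G X] [Fintype X] {F : Type*} [Field F] [Fintype F] (n : ℕ) (hn : 5 ≤ n) (e : G ≃* Matrix.ProjectiveSpecialLinearGroup (Fin n) F) (hprim : MulAction.IsPreprimitive G X) (x : X) (h3 : Nat.card (MulAction.orbitRel.Quotient ↥(MulAction.stabilizer G x) X) = 3) :
    Fintype.card X * ((Fintype.card F ^ 2 - 1) * (Fintype.card F - 1)) = (Fintype.card F ^ n - 1) * (Fintype.card F ^ (n - 1) - 1) := by
  let φ : SpecialLinearGroup F (Fin n → F) →* G := e.symm.toMonoidHom.comp ((QuotientGroup.mk' _).comp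
    (Matrix.SpecialLinearGroup.toLin'_equiv (n := Fin n) (R := F)).symm.toMonoidHom)
  have hφ : Function.Surjective φ := e.symm.surjective.comp ((QuotientGroup.mk'_surjective _).comp
    (Matrix.SpecialLinearGroup.toLin'_equiv (n := Fin n) (R := F)).symm.surjective)
  let _ : MulAction (SpecialLinearGroup F (Fin n → F)) X := MulAction.compHom _ φ
  have h1 : H2.PL.ro (SpecialLinearGroup F (Fin n → F)) x X = 3 := h3 ▸ H2.PL.card_orbits_eq (Quotient.mk _)
    Quotient.mk_surjective fun a b => H2.PL.mk_eq_iff.trans ⟨fun ⟨g, h1, h2⟩ => by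
      obtain ⟨g, rfl⟩ := hφ g
      exact ⟨⟨g, h1⟩, h2⟩, fun ⟨g, h⟩ => ⟨φ g, g.2, h⟩⟩
  have : Nontrivial X := by
    by_contra h
    have := not_nontrivial_iff_subsingleton.1 h
    have := H2.PL.ro_le (G := SpecialLinearGroup F (Fin n → F)) x (fun _ : Fin 1 => x) fun y =>
      ⟨0, 1, Subsingleton.elim _ _, Subsingleton.elim _ _⟩
    omega
  have h2 := MulAction.IsPreprimitive.isCoatom_stabilizer_of_isPreprimitive G x
  have h4 := main (F := F) (V := Fin n → F) (x := x) (by simpa using hn) ⟨fun y => by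
      obtain ⟨g, hg⟩ := MulAction.exists_smul_eq G x y
      obtain ⟨g, rfl⟩ := hφ g
      exact ⟨g, hg⟩, fun K hK => by
      have a1 : (K.map φ).comap φ = K := Subgroup.comap_map_eq_self fun k hk => hK (by
        change φ k • x = x
        rw [MonoidHom.mem_ker.1 hk, one_smul])
      rcases (h2.le_iff.1 (show MulAction.stabilizer G x ≤ K.map φ from fun g hg => by
        obtain ⟨g, rfl⟩ := hφ g
        exact ⟨g, hK hg, rfl⟩)) with a2 | a2
      · exact .inr (by rw [← a1, a2, Subgroup.comap_top])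
      · exact .inl (by rw [← a1, a2]; rfl), h1⟩
  have hq : 1 ≤ Fintype.card F := Fintype.card_pos
  rw [Module.finrank_fin_fun] at h4
  rw [← H2.PL.br_mul hq n, ← H2.PL.br_mul hq (n - 1), ← H2.PL.br_mul hq 2, Nat.add_sub_cancel, Nat.add_sub_cancel,
    Nat.add_sub_cancel, show H2.PL.br (Fintype.card F) 2 = Fintype.card F + 1 by simp [H2.PL.br, Finset.sum_range_succ, add_comm]]
  linear_combination (Fintype.card F - 1) ^ 2 * h4

end Cfsg.Agent.S2194
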