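import Cfsg.Statements.S2244
import Cfsg.Agent.H7.WClosed
import Cfsg.Agent.H7.All

set_option autoImplicit false
open Cfsg

namespace Cfsg.Agent.S2244

open Cfsg.Lie Cfsg.Agent.H7 Cfsg.Agent.H8

theorem chkWCB2 : chkWC chevB2 2 [(0, 0, 0, 0, 0, 0, 0, 0), (0, 0, 0, 0, 0, 0, 0, 0), (0, 0, 0, 0, 0, 0, 0, 0), (0, 0, 0, 0, 0, 0, 0, 0), (0, 0, 0, 0, 0, 0, 0, 0), (0, 0, 0, 0, 0, 0, 0, 0), (4, 5, 1, 0, 0, 0, 0, 0), (5, 6, 2, 4, 5, -1, 1, 2)] = true := by decide +kernel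

theorem chkWCG2 : chkWC chevG2 2 [(0, 0, 0, 0, 0, 0, 0, 0), (0, 0, 0, 0, 0, 0, 0, 0), (0, 0, 0, 0, 0, 0, 0, 0), (0, 0, 0, 0, 0, 0, 0, 0), (0, 0, 0, 0, 0, 0, 0, 0), (0, 0, 0, 0, 0, 0, 0, 0), (0, 0, 0, 0, 0, 0, 0, 0), (0, 0, 0, 0, 0, 0, 0, 0), (6, 7, 1, 0, 0, 0, 0, 0), (7, 8, -2, 6, 7, 1, 1, 2), (7, 9, 3, 6, 7, -1, 1, 3), (6, 10, 1, 0, 0, 0, 0, 0)] = true := by decide +kernel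

theorem chkWCD4 : chkWC chevD4 2 [(0, 0, 0, 0, 0, 0, 0, 0), (0, 0, 0, 0, 0, 0, 0, 0), (0, 0, 0, 0, 0, 0, 0, 0), (0, 0, 0, 0, 0, 0, 0, 0), (0, 0, 0, 0, 0, 0, 0, 0), (0, 0, 0, 0, 0, 0, 0, 0), (0, 0, 0, 0, 0, 0, 0, 0), (0, 0, 0, 0, 0, 0, 0, 0), (0, 0, 0, 0, 0, 0, 0, 0), (0, 0, 0, 0, 0, 0, 0, 0), (0, 0, 0, 0, 0, 0, 0, 0), (0, 0, 0, 0, 0, 0, 0, 0), (0, 0, 0, 0, 0, 0, 0, 0), (0, 0, 0, 0, 0, 0, 0, 0), (0, 0, 0, 0, 0, 0, 0, 0), (12, 14, 1, 0, 0, 0, 0, 0), (13, 14, 1, 0, 0, 0, 0, 0), (12, 16, 1, 0, 0, 0, 0, 0), (0, 0, 0, 0, 0, 0, 0, 0), (14, 18, 1, 0, 0, 0, 0, 0), (12, 19, 1, 0, 0, 0, 0, 0), (13, 19, 1, 0, 0, 0, 0, 0), (12, 21, 1, 0, 0, 0, 0, 0), (14, 22, 1, 0, 0, 0, 0, 0)] = true := by decide +kernel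

theorem chkWCF4 : chkWC chevF4 2 [(0, 0, 0, 0, 0, 0, 0, 0), (0, 0, 0, 0, 0, 0, 0, 0), (0, 0, 0, 0, 0, 0, 0, 0), (0, 0, 0, 0, 0, 0, 0, 0), (0, 0, 0, 0, 0, 0, 0, 0), (0, 0, 0, 0, 0, 0, 0, 0), (0, 0, 0, 0, 0, 0, 0, 0), (0, 0, 0, 0, 0, 0, 0, 0), (0, 0, 0, 0, 0, 0, 0, 0), (0, 0, 0, 0, 0, 0, 0, 0), (0, 0, 0, 0, 0, 0, 0, 0), (0, 0, 0, 0, 0, 0, 0, 0), (0, 0, 0, 0, 0, 0, 0, 0), (0, 0, 0, 0, 0, 0, 0, 0), (0, 0, 0, 0, 0, 0, 0, 0), (0, 0, 0, 0, 0, 0, 0, 0), (0, 0, 0, 0, 0, 0, 0, 0), (0, 0, 0, 0, 0, 0, 0, 0), (0, 0, 0, 0, 0, 0, 0, 0), (0, 0, 0, 0, 0, 0, 0, 0), (0, 0, 0, 0, 0, 0, 0, 0), (0, 0, 0, 0, 0, 0, 0, 0), (0, 0, 0, 0, 0, 0, 0, 0), (0, 0, 0, 0, 0, 0, 0, 0), (0, 0, 0, 0, 0, 0, 0, 0), (0, 0, 0, 0, 0, 0, 0, 0), (24, 25, 1, 0, 0,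 0, 0, 0), (0, 0, 0, 0, 0, 0, 0, 0), (25, 27, 1, 0, 0, 0, 0, 0), (24, 28, 1, 0, 0, 0, 0, 0), (27, 28, 2, 25, 27, -1, 1, 2), (24, 30, 1, 0, 0, 0, 0, 0), (25, 31, 1, 0, 0, 0, 0, 0), (0, 0, 0, 0, 0, 0, 0, 0), (27, 33, 1, 0, 0, 0, 0, 0), (25, 34, 1, 0, 0, 0, 0, 0), (24, 35, 1, 0, 0, 0, 0, 0), (27, 35, 1, 0, 0, 0, 0, 0), (24, 37, 1, 0, 0, 0, 0, 0), (25, 38, 1, 0, 0, 0, 0, 0), (27, 39, 1, 0, 0, 0, 0, 0), (33, 37, 2, 25, 34, 1, 1, 2), (24, 41, 1, 0, 0, 0, 0, 0), (25, 42, 1, 0, 0, 0, 0, 0), (27, 43, 1, 0, 0, 0, 0, 0), (30, 42, -1, 0, 0, 0, 0, 0), (25, 45, 1, 0, 0, 0, 0, 0), (24, 46, 1, 0, 0, 0, 0, 0)] = true := by decide +kernel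

theorem chkWCE6 : chkWC chevE6 1 [(0, 0, 0, 0, 0, 0, 0, 0), (0, 0, 0, 0, 0, 0, 0, 0), (0, 0, 0, 0, 0, 0, 0, 0), (0, 0, 0, 0, 0, 0, 0, 0), (0, 0, 0, 0, 0, 0, 0, 0), (0, 0, 0, 0, 0, 0, 0, 0), (0, 0, 0, 0, 0, 0, 0, 0), (0, 0, 0, 0, 0, 0, 0, 0), (0, 0, 0, 0, 0, 0, 0, 0), (0, 0, 0, 0, 0, 0, 0, 0), (0, 0, 0, 0, 0, 0, 0, 0), (0, 0, 0, 0, 0, 0, 0, 0), (0, 0, 0, 0, 0, 0, 0, 0), (0, 0, 0, 0, 0, 0, 0, 0), (0, 0, 0, 0, 0, 0, 0, 0), (0, 0, 0, 0, 0, 0, 0, 0), (0, 0, 0, 0, 0, 0, 0, 0), (0, 0, 0, 0, 0, 0, 0, 0), (0, 0, 0, 0, 0, 0, 0, 0), (0, 0, 0, 0, 0, 0, 0, 0), (0, 0, 0, 0, 0, 0, 0, 0), (0, 0, 0, 0, 0, 0, 0, 0), (0, 0, 0, 0, 0, 0, 0, 0), (0, 0, 0, 0, 0, 0, 0, 0), (0, 0, 0, 0, 0, 0, 0, 0), (0, 0, 0, 0, 0, 0, 0, 0), (0, 0, 0, 0, 0,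 0, 0, 0), (0, 0, 0, 0, 0, 0, 0, 0), (0, 0, 0, 0, 0, 0, 0, 0), (0, 0, 0, 0, 0, 0, 0, 0), (0, 0, 0, 0, 0, 0, 0, 0), (0, 0, 0, 0, 0, 0, 0, 0), (0, 0, 0, 0, 0, 0, 0, 0), (0, 0, 0, 0, 0, 0, 0, 0), (0, 0, 0, 0, 0, 0, 0, 0), (0, 0, 0, 0, 0, 0, 0, 0), (0, 0, 0, 0, 0, 0, 0, 0), (0, 0, 0, 0, 0, 0, 0, 0), (36, 37, 1, 0, 0, 0, 0, 0), (0, 0, 0, 0, 0, 0, 0, 0), (37, 39, 1, 0, 0, 0, 0, 0), (36, 40, 1, 0, 0, 0, 0, 0), (0, 0, 0, 0, 0, 0, 0, 0), (39, 42, 1, 0, 0, 0, 0, 0), (37, 43, 1, 0, 0, 0, 0, 0), (36, 44, 1, 0, 0, 0, 0, 0), (0, 0, 0, 0, 0, 0, 0, 0), (39, 46, 1, 0, 0, 0, 0, 0), (37, 47, 1, 0, 0, 0, 0, 0), (36, 48, 1, 0, 0, 0, 0, 0), (42, 47, 1, 0, 0, 0, 0, 0), (37, 50, 1, 0, 0, 0, 0, 0), (36, 51, 1, 0, 0, 0, 0, 0), (39, 51, 1, 0, 0,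 0, 0, 0), (36, 53, 1, 0, 0, 0, 0, 0), (37, 54, 1, 0, 0, 0, 0, 0), (0, 0, 0, 0, 0, 0, 0, 0), (42, 56, 1, 0, 0, 0, 0, 0), (39, 57, 1, 0, 0, 0, 0, 0), (37, 58, 1, 0, 0, 0, 0, 0), (36, 59, 1, 0, 0, 0, 0, 0), (46, 58, 1, 0, 0, 0, 0, 0), (37, 61, 1, 0, 0, 0, 0, 0), (36, 62, 1, 0, 0, 0, 0, 0), (39, 62, 1, 0, 0, 0, 0, 0), (36, 64, 1, 0, 0, 0, 0, 0), (37, 65, 1, 0, 0, 0, 0, 0), (42, 64, 1, 0, 0, 0, 0, 0), (36, 67, 1, 0, 0, 0, 0, 0), (37, 68, 1, 0, 0, 0, 0, 0), (39, 69, 1, 0, 0, 0, 0, 0), (46, 70, 1, 0, 0, 0, 0, 0)] = true := by decide +kernel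

theorem chkWCE7 : chkWC chevE7 1 [(0, 0, 0, 0, 0, 0, 0, 0), (0, 0, 0, 0, 0, 0, 0, 0), (0, 0, 0, 0, 0, 0, 0, 0), (0, 0, 0, 0, 0, 0, 0, 0), (0, 0, 0, 0, 0, 0, 0, 0), (0, 0, 0, 0, 0, 0, 0, 0), (0, 0, 0, 0, 0, 0, 0, 0), (0, 0, 0, 0, 0, 0, 0, 0), (0, 0, 0, 0, 0, 0, 0, 0), (0, 0, 0, 0, 0, 0, 0, 0), (0, 0, 0, 0, 0, 0, 0, 0), (0, 0, 0, 0, 0, 0, 0, 0), (0, 0, 0, 0, 0, 0, 0, 0), (0, 0, 0, 0, 0, 0, 0, 0), (0, 0, 0, 0, 0, 0, 0, 0), (0, 0, 0, 0, 0, 0, 0, 0), (0, 0, 0, 0, 0, 0, 0, 0), (0, 0, 0, 0, 0, 0, 0, 0), (0, 0, 0, 0, 0, 0, 0, 0), (0, 0, 0, 0, 0, 0, 0, 0), (0, 0, 0, 0, 0, 0, 0, 0), (0, 0, 0, 0, 0, 0, 0, 0), (0, 0, 0, 0, 0, 0, 0, 0), (0, 0, 0, 0, 0, 0, 0, 0), (0, 0, 0, 0, 0, 0, 0, 0), (0, 0, 0, 0, 0, 0, 0, 0), (0, 0, 0, 0, 0,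 0, 0, 0), (0, 0, 0, 0, 0, 0, 0, 0), (0, 0, 0, 0, 0, 0, 0, 0), (0, 0, 0, 0, 0, 0, 0, 0), (0, 0, 0, 0, 0, 0, 0, 0), (0, 0, 0, 0, 0, 0, 0, 0), (0, 0, 0, 0, 0, 0, 0, 0), (0, 0, 0, 0, 0, 0, 0, 0), (0, 0, 0, 0, 0, 0, 0, 0), (0, 0, 0, 0, 0, 0, 0, 0), (0, 0, 0, 0, 0, 0, 0, 0), (0, 0, 0, 0, 0, 0, 0, 0), (0, 0, 0, 0, 0, 0, 0, 0), (0, 0, 0, 0, 0, 0, 0, 0), (0, 0, 0, 0, 0, 0, 0, 0), (0, 0, 0, 0, 0, 0, 0, 0), (0, 0, 0, 0, 0, 0, 0, 0), (0, 0, 0, 0, 0, 0, 0, 0), (0, 0, 0, 0, 0, 0, 0, 0), (0, 0, 0, 0, 0, 0, 0, 0), (0, 0, 0, 0, 0, 0, 0, 0), (0, 0, 0, 0, 0, 0, 0, 0), (0, 0, 0, 0, 0, 0, 0, 0), (0, 0, 0, 0, 0, 0, 0, 0), (0, 0, 0, 0, 0, 0, 0, 0), (0, 0, 0, 0, 0, 0, 0, 0), (0, 0, 0, 0, 0, 0, 0, 0), (0, 0, 0, 0, 0, 0, 0, 0), (0, 0, 0, 0, 0,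 0, 0, 0), (0, 0, 0, 0, 0, 0, 0, 0), (0, 0, 0, 0, 0, 0, 0, 0), (0, 0, 0, 0, 0, 0, 0, 0), (0, 0, 0, 0, 0, 0, 0, 0), (0, 0, 0, 0, 0, 0, 0, 0), (0, 0, 0, 0, 0, 0, 0, 0), (0, 0, 0, 0, 0, 0, 0, 0), (0, 0, 0, 0, 0, 0, 0, 0), (0, 0, 0, 0, 0, 0, 0, 0), (0, 0, 0, 0, 0, 0, 0, 0), (63, 64, 1, 0, 0, 0, 0, 0), (0, 0, 0, 0, 0, 0, 0, 0), (64, 66, 1, 0, 0, 0, 0, 0), (63, 67, 1, 0, 0, 0, 0, 0), (0, 0, 0, 0, 0, 0, 0, 0), (66, 69, 1, 0, 0, 0, 0, 0), (64, 70, 1, 0, 0, 0, 0, 0), (63, 71, 1, 0, 0, 0, 0, 0), (0, 0, 0, 0, 0, 0, 0, 0), (69, 73, 1, 0, 0, 0, 0, 0), (66, 74, 1, 0, 0, 0, 0, 0), (64, 75, 1, 0, 0, 0, 0, 0), (63, 76, 1, 0, 0, 0, 0, 0), (0, 0, 0, 0, 0, 0, 0, 0), (69, 78, 1, 0, 0, 0, 0, 0), (66, 79, 1, 0, 0, 0, 0, 0), (64, 80, 1, 0, 0,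 0, 0, 0), (63, 81, 1, 0, 0, 0, 0, 0), (73, 79, 1, 0, 0, 0, 0, 0), (66, 83, 1, 0, 0, 0, 0, 0), (64, 84, 1, 0, 0, 0, 0, 0), (63, 85, 1, 0, 0, 0, 0, 0), (69, 84, 1, 0, 0, 0, 0, 0), (64, 87, 1, 0, 0, 0, 0, 0), (63, 88, 1, 0, 0, 0, 0, 0), (66, 88, 1, 0, 0, 0, 0, 0), (63, 90, 1, 0, 0, 0, 0, 0), (64, 91, 1, 0, 0, 0, 0, 0), (0, 0, 0, 0, 0, 0, 0, 0), (73, 93, 1, 0, 0, 0, 0, 0), (69, 94, 1, 0, 0, 0, 0, 0), (66, 95, 1, 0, 0, 0, 0, 0), (64, 96, 1, 0, 0, 0, 0, 0), (63, 97, 1, 0, 0, 0, 0, 0), (78, 95, 1, 0, 0, 0, 0, 0), (66, 99, 1, 0, 0, 0, 0, 0), (64, 100, 1, 0, 0, 0, 0, 0), (63, 101, 1, 0, 0, 0, 0, 0), (69, 100, 1, 0, 0, 0, 0, 0), (64, 103, 1, 0, 0, 0, 0, 0), (63, 104, 1, 0, 0, 0, 0, 0), (66, 104, 1, 0, 0, 0, 0, 0), (63, 106, 1,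 0, 0, 0, 0, 0), (64, 107, 1, 0, 0, 0, 0, 0), (73, 103, 1, 0, 0, 0, 0, 0), (64, 109, 1, 0, 0, 0, 0, 0), (63, 110, 1, 0, 0, 0, 0, 0), (66, 110, 1, 0, 0, 0, 0, 0), (63, 112, 1, 0, 0, 0, 0, 0), (64, 113, 1, 0, 0, 0, 0, 0), (69, 112, 1, 0, 0, 0, 0, 0), (63, 115, 1, 0, 0, 0, 0, 0), (64, 116, 1, 0, 0, 0, 0, 0), (66, 117, 1, 0, 0, 0, 0, 0), (78, 115, 1, 0, 0, 0, 0, 0), (63, 119, 1, 0, 0, 0, 0, 0), (64, 120, 1, 0, 0, 0, 0, 0), (66, 121, 1, 0, 0, 0, 0, 0), (69, 122, 1, 0, 0, 0, 0, 0), (73, 123, 1, 0, 0, 0, 0, 0), (93, 124, 1, 0, 0, 0, 0, 0)] = true := by decide +kernel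

theorem chkWCE8 : chkWC chevE8 1 [(0, 0, 0, 0, 0, 0, 0, 0), (0, 0, 0, 0, 0, 0, 0, 0), (0, 0, 0, 0, 0, 0, 0, 0), (0, 0, 0, 0, 0, 0, 0, 0), (0, 0, 0, 0, 0, 0, 0, 0), (0, 0, 0, 0, 0, 0, 0, 0), (0, 0, 0, 0, 0, 0, 0, 0), (0, 0, 0, 0, 0, 0, 0, 0), (0, 0, 0, 0, 0, 0, 0, 0), (0, 0, 0, 0, 0, 0, 0, 0), (0, 0, 0, 0, 0, 0, 0, 0), (0, 0, 0, 0, 0, 0, 0, 0), (0, 0, 0, 0, 0, 0, 0, 0), (0, 0, 0, 0, 0, 0, 0, 0), (0, 0, 0, 0, 0, 0, 0, 0), (0, 0, 0, 0, 0, 0, 0, 0), (0, 0, 0, 0, 0, 0, 0, 0), (0, 0, 0, 0, 0, 0, 0, 0), (0, 0, 0, 0, 0, 0, 0, 0), (0, 0, 0, 0, 0, 0, 0, 0), (0, 0, 0, 0, 0, 0, 0, 0), (0, 0, 0, 0, 0, 0, 0, 0), (0, 0, 0, 0, 0, 0, 0, 0), (0, 0, 0, 0, 0, 0, 0, 0), (0, 0, 0, 0, 0, 0, 0, 0), (0, 0, 0, 0, 0, 0, 0, 0), (0, 0, 0, 0, 0,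 0, 0, 0), (0, 0, 0, 0, 0, 0, 0, 0), (0, 0, 0, 0, 0, 0, 0, 0), (0, 0, 0, 0, 0, 0, 0, 0), (0, 0, 0, 0, 0, 0, 0, 0), (0, 0, 0, 0, 0, 0, 0, 0), (0, 0, 0, 0, 0, 0, 0, 0), (0, 0, 0, 0, 0, 0, 0, 0), (0, 0, 0, 0, 0, 0, 0, 0), (0, 0, 0, 0, 0, 0, 0, 0), (0, 0, 0, 0, 0, 0, 0, 0), (0, 0, 0, 0, 0, 0, 0, 0), (0, 0, 0, 0, 0, 0, 0, 0), (0, 0, 0, 0, 0, 0, 0, 0), (0, 0, 0, 0, 0, 0, 0, 0), (0, 0, 0, 0, 0, 0, 0, 0), (0, 0, 0, 0, 0, 0, 0, 0), (0, 0, 0, 0, 0, 0, 0, 0), (0, 0, 0, 0, 0, 0, 0, 0), (0, 0, 0, 0, 0, 0, 0, 0), (0, 0, 0, 0, 0, 0, 0, 0), (0, 0, 0, 0, 0, 0, 0, 0), (0, 0, 0, 0, 0, 0, 0, 0), (0, 0, 0, 0, 0, 0, 0, 0), (0, 0, 0, 0, 0, 0, 0, 0), (0, 0, 0, 0, 0, 0, 0, 0), (0, 0, 0, 0, 0, 0, 0, 0), (0, 0, 0, 0, 0, 0, 0, 0), (0, 0, 0, 0, 0,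 0, 0, 0), (0, 0, 0, 0, 0, 0, 0, 0), (0, 0, 0, 0, 0, 0, 0, 0), (0, 0, 0, 0, 0, 0, 0, 0), (0, 0, 0, 0, 0, 0, 0, 0), (0, 0, 0, 0, 0, 0, 0, 0), (0, 0, 0, 0, 0, 0, 0, 0), (0, 0, 0, 0, 0, 0, 0, 0), (0, 0, 0, 0, 0, 0, 0, 0), (0, 0, 0, 0, 0, 0, 0, 0), (0, 0, 0, 0, 0, 0, 0, 0), (0, 0, 0, 0, 0, 0, 0, 0), (0, 0, 0, 0, 0, 0, 0, 0), (0, 0, 0, 0, 0, 0, 0, 0), (0, 0, 0, 0, 0, 0, 0, 0), (0, 0, 0, 0, 0, 0, 0, 0), (0, 0, 0, 0, 0, 0, 0, 0), (0, 0, 0, 0, 0, 0, 0, 0), (0, 0, 0, 0, 0, 0, 0, 0), (0, 0, 0, 0, 0, 0, 0, 0), (0, 0, 0, 0, 0, 0, 0, 0), (0, 0, 0, 0, 0, 0, 0, 0), (0, 0, 0, 0, 0, 0, 0, 0), (0, 0, 0, 0, 0, 0, 0, 0), (0, 0, 0, 0, 0, 0, 0, 0), (0, 0, 0, 0, 0, 0, 0, 0), (0, 0, 0, 0, 0, 0, 0, 0), (0, 0, 0, 0, 0, 0, 0, 0), (0, 0, 0, 0, 0,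 0, 0, 0), (0, 0, 0, 0, 0, 0, 0, 0), (0, 0, 0, 0, 0, 0, 0, 0), (0, 0, 0, 0, 0, 0, 0, 0), (0, 0, 0, 0, 0, 0, 0, 0), (0, 0, 0, 0, 0, 0, 0, 0), (0, 0, 0, 0, 0, 0, 0, 0), (0, 0, 0, 0, 0, 0, 0, 0), (0, 0, 0, 0, 0, 0, 0, 0), (0, 0, 0, 0, 0, 0, 0, 0), (0, 0, 0, 0, 0, 0, 0, 0), (0, 0, 0, 0, 0, 0, 0, 0), (0, 0, 0, 0, 0, 0, 0, 0), (0, 0, 0, 0, 0, 0, 0, 0), (0, 0, 0, 0, 0, 0, 0, 0), (0, 0, 0, 0, 0, 0, 0, 0), (0, 0, 0, 0, 0, 0, 0, 0), (0, 0, 0, 0, 0, 0, 0, 0), (0, 0, 0, 0, 0, 0, 0, 0), (0, 0, 0, 0, 0, 0, 0, 0), (0, 0, 0, 0, 0, 0, 0, 0), (0, 0, 0, 0, 0, 0, 0, 0), (0, 0, 0, 0, 0, 0, 0, 0), (0, 0, 0, 0, 0, 0, 0, 0), (0, 0, 0, 0, 0, 0, 0, 0), (0, 0, 0, 0, 0, 0, 0, 0), (0, 0, 0, 0, 0, 0, 0, 0), (0, 0, 0, 0, 0, 0, 0, 0), (0, 0, 0, 0, 0,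 0, 0, 0), (0, 0, 0, 0, 0, 0, 0, 0), (0, 0, 0, 0, 0, 0, 0, 0), (0, 0, 0, 0, 0, 0, 0, 0), (0, 0, 0, 0, 0, 0, 0, 0), (0, 0, 0, 0, 0, 0, 0, 0), (0, 0, 0, 0, 0, 0, 0, 0), (0, 0, 0, 0, 0, 0, 0, 0), (0, 0, 0, 0, 0, 0, 0, 0), (0, 0, 0, 0, 0, 0, 0, 0), (0, 0, 0, 0, 0, 0, 0, 0), (0, 0, 0, 0, 0, 0, 0, 0), (120, 121, 1, 0, 0, 0, 0, 0), (0, 0, 0, 0, 0, 0, 0, 0), (121, 123, 1, 0, 0, 0, 0, 0), (120, 124, 1, 0, 0, 0, 0, 0), (0, 0, 0, 0, 0, 0, 0, 0), (123, 126, 1, 0, 0, 0, 0, 0), (121, 127, 1, 0, 0, 0, 0, 0), (120, 128, 1, 0, 0, 0, 0, 0), (0, 0, 0, 0, 0, 0, 0, 0), (126, 130, 1, 0, 0, 0, 0, 0), (123, 131, 1, 0, 0, 0, 0, 0), (121, 132, 1, 0, 0, 0, 0, 0), (120, 133, 1, 0, 0, 0, 0, 0), (0, 0, 0, 0, 0, 0, 0, 0), (130, 135, 1, 0, 0, 0, 0, 0),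 (126, 136, 1, 0, 0, 0, 0, 0), (123, 137, 1, 0, 0, 0, 0, 0), (121, 138, 1, 0, 0, 0, 0, 0), (120, 139, 1, 0, 0, 0, 0, 0), (0, 0, 0, 0, 0, 0, 0, 0), (130, 141, 1, 0, 0, 0, 0, 0), (126, 142, 1, 0, 0, 0, 0, 0), (123, 143, 1, 0, 0, 0, 0, 0), (121, 144, 1, 0, 0, 0, 0, 0), (120, 145, 1, 0, 0, 0, 0, 0), (135, 142, 1, 0, 0, 0, 0, 0), (126, 147, 1, 0, 0, 0, 0, 0), (123, 148, 1, 0, 0, 0, 0, 0), (121, 149, 1, 0, 0, 0, 0, 0), (120, 150, 1, 0, 0, 0, 0, 0), (130, 148, 1, 0, 0, 0, 0, 0), (123, 152, 1, 0, 0, 0, 0, 0), (121, 153, 1, 0, 0, 0, 0, 0), (120, 154, 1, 0, 0, 0, 0, 0), (126, 153, 1, 0, 0, 0, 0, 0), (121, 156, 1, 0, 0, 0, 0, 0), (120, 157, 1, 0, 0, 0, 0, 0), (123, 157, 1, 0, 0, 0, 0, 0), (120, 159, 1, 0, 0, 0, 0, 0), (121, 160,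 1, 0, 0, 0, 0, 0), (0, 0, 0, 0, 0, 0, 0, 0), (135, 162, 1, 0, 0, 0, 0, 0), (130, 163, 1, 0, 0, 0, 0, 0), (126, 164, 1, 0, 0, 0, 0, 0), (123, 165, 1, 0, 0, 0, 0, 0), (121, 166, 1, 0, 0, 0, 0, 0), (120, 167, 1, 0, 0, 0, 0, 0), (141, 164, 1, 0, 0, 0, 0, 0), (126, 169, 1, 0, 0, 0, 0, 0), (123, 170, 1, 0, 0, 0, 0, 0), (121, 171, 1, 0, 0, 0, 0, 0), (120, 172, 1, 0, 0, 0, 0, 0), (130, 170, 1, 0, 0, 0, 0, 0), (123, 174, 1, 0, 0, 0, 0, 0), (121, 175, 1, 0, 0, 0, 0, 0), (120, 176, 1, 0, 0, 0, 0, 0), (126, 175, 1, 0, 0, 0, 0, 0), (121, 178, 1, 0, 0, 0, 0, 0), (120, 179, 1, 0, 0, 0, 0, 0), (123, 179, 1, 0, 0, 0, 0, 0), (120, 181, 1, 0, 0, 0, 0, 0), (121, 182, 1, 0, 0, 0, 0, 0), (135, 174, 1, 0, 0, 0, 0, 0), (123, 184, 1, 0, 0, 0,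 0, 0), (121, 185, 1, 0, 0, 0, 0, 0), (120, 186, 1, 0, 0, 0, 0, 0), (126, 185, 1, 0, 0, 0, 0, 0), (121, 188, 1, 0, 0, 0, 0, 0), (120, 189, 1, 0, 0, 0, 0, 0), (123, 189, 1, 0, 0, 0, 0, 0), (120, 191, 1, 0, 0, 0, 0, 0), (121, 192, 1, 0, 0, 0, 0, 0), (130, 188, 1, 0, 0, 0, 0, 0), (121, 194, 1, 0, 0, 0, 0, 0), (120, 195, 1, 0, 0, 0, 0, 0), (123, 195, 1, 0, 0, 0, 0, 0), (120, 197, 1, 0, 0, 0, 0, 0), (121, 198, 1, 0, 0, 0, 0, 0), (126, 197, 1, 0, 0, 0, 0, 0), (120, 200, 1, 0, 0, 0, 0, 0), (121, 201, 1, 0, 0, 0, 0, 0), (123, 202, 1, 0, 0, 0, 0, 0), (141, 194, 1, 0, 0, 0, 0, 0), (121, 204, 1, 0, 0, 0, 0, 0), (120, 205, 1, 0, 0, 0, 0, 0), (123, 205, 1, 0, 0, 0, 0, 0), (120, 207, 1, 0, 0, 0, 0, 0), (121, 208, 1, 0, 0, 0, 0, 0),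 (126, 207, 1, 0, 0, 0, 0, 0), (120, 210, 1, 0, 0, 0, 0, 0), (121, 211, 1, 0, 0, 0, 0, 0), (123, 212, 1, 0, 0, 0, 0, 0), (130, 210, 1, 0, 0, 0, 0, 0), (120, 214, 1, 0, 0, 0, 0, 0), (121, 215, 1, 0, 0, 0, 0, 0), (123, 216, 1, 0, 0, 0, 0, 0), (126, 217, 1, 0, 0, 0, 0, 0), (135, 214, 1, 0, 0, 0, 0, 0), (120, 219, 1, 0, 0, 0, 0, 0), (121, 220, 1, 0, 0, 0, 0, 0), (123, 221, 1, 0, 0, 0, 0, 0), (126, 222, 1, 0, 0, 0, 0, 0), (130, 223, 1, 0, 0, 0, 0, 0), (141, 224, 1, 0, 0, 0, 0, 0), (162, 219, 1, 0, 0, 0, 0, 0), (120, 226, 1, 0, 0, 0, 0, 0), (121, 227, 1, 0, 0, 0, 0, 0), (123, 228, 1, 0, 0, 0, 0, 0), (126, 229, 1, 0, 0, 0, 0, 0), (130, 230, 1, 0, 0, 0, 0, 0), (135, 231, 1, 0, 0, 0, 0, 0), (141, 231, 1, 0, 0, 0, 0, 0), (135, 233,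 1, 0, 0, 0, 0, 0), (130, 234, 1, 0, 0, 0, 0, 0), (126, 235, 1, 0, 0, 0, 0, 0), (123, 236, 1, 0, 0, 0, 0, 0), (121, 237, 1, 0, 0, 0, 0, 0), (120, 238, 1, 0, 0, 0, 0, 0)] = true := by decide +kernel

/-- Weakly closed unipotent subgroups of Chevalley groups: let G be the Chevalley group of type G₂, B₂, D₄, F₄, E₆, E₇ or E₈ over a finite field F (the matrix group generated by the root elements), with |F| ≠ 2, and |F| ≠ 3 as well for the types G₂, B₂, D₄, F₄. Let U be the subgroup generated by the positive root subgroups. If X ≤ U is weakly closed in U with respect to G (every G-conjugate of X lying in U equals X), then X is the unipotent radical U_J of a standard parabolic subgroup for some set J of fundamental roots. -/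
theorem result {F : Type*} [Field F] [Fintype F] (D : Cfsg.Lie.ChevalleyDatum) (hD : D ∈ [Cfsg.Lie.chevG2, Cfsg.Lie.chevB2, Cfsg.Lie.chevD4, Cfsg.Lie.chevF4, Cfsg.Lie.chevE6, Cfsg.Lie.chevE7, Cfsg.Lie.chevE8])
    (h2 : Fintype.card F ≠ 2) (h3 : D ∈ [Cfsg.Lie.chevG2, Cfsg.Lie.chevB2, Cfsg.Lie.chevD4, Cfsg.Lie.chevF4] → Fintype.card F ≠ 3)
    (X : Subgroup (GL D.Idx F)) (hXU : X ≤ D.posUnipotent F)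
    (hwc : ∀ g ∈ D.group F, X.map (MulAut.conj g).toMonoidHom ≤ D.posUnipotent F → X.map (MulAut.conj g).toMonoidHom = X) :
    ∃ J : Set ℕ, (∀ j ∈ J, j < D.rank) ∧ X = D.unipotentRadical F J := by
  obtain ⟨_, _, _, _, _⟩ := facts_of_mem hD
  have hx := isChev_xg (D := D) (F := F)
  have hXG : X ≤ D.group F := by rw [← GG_xu]; exact hXU.trans (UU_xu (D := D) (F := F) ▸ XS_le_GG _ _)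
  have key : ∀ B T, chkWC D B T = true → B + 2 ≤ Nat.card F → ∃ J : Set ℕ, (∀ j ∈ J, j < D.rank) ∧ X = D.unipotentRadical F J :=
    fun B T hT hB => by
    obtain ⟨J, hJ, e⟩ := hx.eq_UJ_of_chk GG_xg hT hB (X := X.subgroupOf (D.group F))
      (UU_xg (D := D) (F := F) ▸ Subgroup.comap_mono hXU) fun g hg => by
        have h1 := hwc g g.2 (by
          rintro _ ⟨y, hy, rfl⟩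
          have := hg ⟨y, hXG hy⟩ hy
          rwa [UU_xg] at this)
        refine Subgroup.mem_normalizer_iff.2 fun y => ⟨fun hy => ?_, fun hy => ?_⟩
        · exact h1.le ⟨y, hy, rfl⟩
        · obtain ⟨z, hz, e⟩ := h1.ge hy
          exact show y.1 ∈ X from (MulAut.conj g.1).injective e ▸ hz
    refine ⟨J, hJ, ?_⟩
    rw [← Subgroup.map_subgroupOf_eq_of_le hXG, e, UJ, map_XS, ← unipotentRadical_xu]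
    rfl
  have h4 : 1 < Fintype.card F := Fintype.one_lt_card
  rw [← Nat.card_eq_fintype_card] at h2 h3 h4
  simp only [List.mem_cons, List.not_mem_nil, or_false] at hD
  rcases hD with rfl | rfl | rfl | rfl | rfl | rfl | rfl
  · exact key _ _ chkWCG2 (by have := h3 (by simp); omega)
  · exact key _ _ chkWCB2 (by have := h3 (by simp); omega)
  · exact key _ _ chkWCD4 (by have := h3 (by simp); omega)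
  · exact key _ _ chkWCF4 (by have := h3 (by simp); omega)
  · exact key _ _ chkWCE6 (by omega)
  · exact key _ _ chkWCE7 (by omega)
  · exact key _ _ chkWCE8 (by omega)

end Cfsg.Agent.S2244
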