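import Cfsg.Statements.S2247
import Cfsg.Agent.H2.SzGen

set_option autoImplicit false
open Cfsg

namespace Cfsg.Agent.S2247

/-- In the Suzuki group with q = 2^(2m+1), m ≥ 1 (realised as the stabiliser in SL₄ of the Suzuki–Tits ovoid), the normalizer of a Sylow 2-subgroup P is a maximal subgroup and is the only maximal subgroup containing P. -/
theorem result {F : Type*} [Field F] [Fintype F] {m : ℕ} (hm : 1 ≤ m) (hF : Fintype.card F = 2 ^ (2 * m + 1)) (P : Sylow 2 ↥(Cfsg.Sz F m)) :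
    IsCoatom (Subgroup.normalizer ((P : Subgroup ↥(Cfsg.Sz F m)) : Set ↥(Cfsg.Sz F m))) ∧
    ∀ M : Subgroup ↥(Cfsg.Sz F m), IsCoatom M → (P : Subgroup ↥(Cfsg.Sz F m)) ≤ M → M = Subgroup.normalizer ((P : Subgroup ↥(Cfsg.Sz F m)) : Set ↥(Cfsg.Sz F m)) := by
  have := H2.SzF.of_fintype hm hF
  obtain ⟨p, hp⟩ := H2.Suz.sylow_eq_Qp P
  rw [hp, H2.Suz.normalizer_Qp]
  have key : ∀ M : Subgroup ↥(Cfsg.Sz F m), H2.Suz.Qp p ≤ M → M ≠ ⊤ → M ≤ MulAction.stabilizer _ p := by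
    intro M hM hne g hg
    by_contra h
    exact hne (H2.Suz.eq_top_of_Qp_le hM hg h)
  refine ⟨⟨H2.Suz.stabilizer_ne_top p, fun M hM => ?_⟩, fun M hM hle => ?_⟩
  · by_contra hne
    exact absurd (key M ((H2.Suz.Qp_le_stabilizer p).trans hM.le) hne) (not_le_of_gt hM)
  · have h1 := key M hle hM.1
    rcases h1.eq_or_lt with h | h
    · exact h
    · exact absurd (hM.2 _ h) (H2.Suz.stabilizer_ne_top p)

end Cfsg.Agent.S2247
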