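import Cfsg.Statements.S2276
import Cfsg.Agent.H4.AP3

set_option autoImplicit false
open Cfsg

namespace Cfsg.Agent.S2276

/-- Let n ≥ 5, p ≥ 3 a prime, and u, w non-identity elements of p-power order in the alternating group A_n. Then there is g ∈ A_n such that u·(g w g⁻¹) does not have p-power order and ⟨u, g w g⁻¹⟩ is not solvable. -/
theorem result (n : ℕ) (hn : 5 ≤ n) (p : ℕ) (hp : p.Prime) (hp3 : 3 ≤ p) (u w : alternatingGroup (Fin n)) (hu : u ≠ 1) (hw : w ≠ 1)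
    (hu' : ∃ k : ℕ, orderOf u = p ^ k) (hw' : ∃ k : ℕ, orderOf w = p ^ k) :
    ∃ g : alternatingGroup (Fin n), (¬ ∃ k : ℕ, orderOf (u * (g * w * g⁻¹)) = p ^ k) ∧
      ¬ Group.IsSolvable ↥(Subgroup.closure ({u, g * w * g⁻¹} : Set (alternatingGroup (Fin n)))) := by
  obtain ⟨a, ha⟩ := hu'
  obtain ⟨b, hb⟩ := hw'
  have h1 : (u : Equiv.Perm (Fin n)) ^ p ^ a = 1 := by
    rw [← ha, ← Subgroup.coe_pow, pow_orderOf_eq_one]; rfl
  have h2 : (w : Equiv.Perm (Fin n)) ^ p ^ b = 1 := by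
    rw [← hb, ← Subgroup.coe_pow, pow_orderOf_eq_one]; rfl
  obtain ⟨g, hg, h3, h4⟩ := H4.bothP_main hp (by omega) (fun e => hu (Subtype.ext e))
    (fun e => hw (Subtype.ext e)) h1 h2 (by simpa using hn) 1
  refine ⟨⟨g, hg⟩, ?_, fun hs => h4 ?_⟩
  · rw [← Subgroup.orderOf_coe]; exact h3
  · have e : (Subgroup.closure ({u, ⟨g, hg⟩ * w * ⟨g, hg⟩⁻¹} : Set (alternatingGroup (Fin n)))).map
        (alternatingGroup (Fin n)).subtype =
        Subgroup.closure {(u : Equiv.Perm (Fin n)), g * w * g⁻¹} := by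
      rw [MonoidHom.map_closure]; simp [Set.image_insert_eq]
    rw [← e]
    exact Group.isSolvable_of_surjective (MonoidHom.subgroupMap_surjective _ _)

end Cfsg.Agent.S2276
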