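import Cfsg.Statements.S2277
import Cfsg.Agent.H3.PrimeGraph

set_option autoImplicit false
open Cfsg

namespace Cfsg.Agent.S2277

open Subgroup MulAction H3

/-- fixed points of an automorphism -/
def Fx {V : Type*} [Group V] (a : MulAut V) : Subgroup V where
  carrier := {v | a v = v}
  one_mem' := map_one a
  mul_mem' := fun {x y} hx hy => by
    change a (x * y) = x * y
    rw [map_mul, hx, hy]
  inv_mem' := fun {x} hx => by
    change a x⁻¹ = x⁻¹
    rw [map_inv, hx]

theorem mem_Fx {V : Type*} [Group V] {a : MulAut V} {v : V} : v ∈ Fx a ↔ a v = v := Iff.rfl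

theorem card_Fx_conj {V : Type*} [Group V] (z c : MulAut V) :
    Nat.card (Fx (z * c * z⁻¹)) = Nat.card (Fx c) := by
  rw [← card_map_of_injective (f := z.toMonoidHom) z.injective (K := Fx c)]
  congr 2
  ext v
  simp only [mem_Fx, mem_map, MulAut.mul_apply, MulEquiv.coe_toMonoidHom]
  constructor
  · intro h
    exact ⟨z⁻¹ v, z.injective (by simpa using h), by simp⟩
  · rintro ⟨w, hw, rfl⟩
    simp [hw]

theorem card_cube_le {V : Type*} [CommGroup V] [Finite V] (ζ c : MulAut V) (hc : Commute ζ c)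
    (h2 : Fx (ζ * ζ) = ⊥) :
    Nat.card (Fx c) * (Nat.card (Fx (ζ * c)) * Nat.card (Fx (ζ * ζ * c))) ≤ Nat.card V := by
  rw [← Nat.card_prod, ← Nat.card_prod]
  let f : Fx c × Fx (ζ * c) × Fx (ζ * ζ * c) →* V :=
    (Fx c).subtype.coprod ((Fx (ζ * c)).subtype.coprod (Fx (ζ * ζ * c)).subtype)
  refine Nat.card_le_card_of_injective f ((injective_iff_map_eq_one f).2 ?_)
  rintro ⟨⟨v0, h0⟩, ⟨v1, h1⟩, ⟨v2, h2'⟩⟩ e
  have e1 : v0 * (v1 * v2) = 1 := e
  have hcomm : ∀ v, ζ (c v) = c (ζ v) := fun v => congrArg (fun a : MulAut V => a v) hc.eq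
  have k : ∀ v, ζ (ζ v) = v → v = 1 := fun v hv => by
    have : v ∈ Fx (ζ * ζ) := hv
    rwa [h2] at this
  have a0 : c v0 = v0 := h0
  have a1 : ζ (c v1) = v1 := h1
  have a2 : ζ (ζ (c v2)) = v2 := h2'
  have e2 := congrArg (fun v => ζ (c v)) e1
  simp only [map_mul, map_one, a0, a1] at e2
  have e3 : ζ v0 * v0⁻¹ = v2 * (ζ (c v2))⁻¹ := by
    rw [mul_inv_eq_iff_eq_mul, mul_assoc, mul_comm _ v0, ← mul_assoc, eq_mul_inv_iff_mul_eq]
    apply mul_right_cancel (b := v1)
    rw [mul_assoc, mul_comm _ v1, e2, mul_comm v2, mul_assoc, mul_comm v2, e1]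
  have e4 : c (ζ v0 * v0⁻¹) = ζ v0 * v0⁻¹ := by rw [map_mul, map_inv, ← hcomm, a0]
  have e5 : ζ (ζ (c (ζ v0 * v0⁻¹))) = ζ v0 * v0⁻¹ := by
    rw [e3]
    simp only [map_mul, map_inv, a2]
    rw [hcomm (ζ (c v2)), a2]
  rw [e4] at e5
  have e6 := k _ e5
  have b0 : v0 = 1 := k _ (by rw [mul_inv_eq_one.1 e6, mul_inv_eq_one.1 e6])
  have b2 : v2 = 1 := by
    rw [e3, mul_inv_eq_one] at e6
    apply k
    rw [← e6] at a2
    rw [a2, a2]
  rw [b0, b2, one_mul, mul_one] at e1
  simp [b0, b2, e1]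

theorem core_ab {V : Type*} [CommGroup V] [Finite V] [Nontrivial V] {p : ℕ} [hp : Fact p.Prime]
    (hp3 : 3 ≤ p) (A : Subgroup (MulAut V)) (hA : IsPGroup p A)
    (hirr : ∀ M : Subgroup V, (∀ a ∈ A, ∀ x ∈ M, a x ∈ M) → M = ⊥ ∨ M = ⊤) (C : Set A)
    (hC : ∀ S : Subgroup A, C ⊆ S → S = ⊤)
    (hc : ∀ c ∈ C, Nat.card V ≤ Nat.card (Fx (c : MulAut V)) ^ 2) : ∀ a ∈ A, a = 1 := by
  have hV : 1 < Nat.card V := Finite.one_lt_card
  have hz : ∀ ζ ∈ center A, ζ ≠ 1 → Fx (ζ : MulAut V) = ⊥ := by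
    intro ζ h1 h2
    refine (hirr _ fun a ha x hx => ?_).resolve_right fun e => h2 (Subtype.ext ?_)
    · have := congrArg (fun u : A => (u : MulAut V) x) (mem_center_iff.1 h1 ⟨a, ha⟩)
      simp only [coe_mul, MulAut.mul_apply] at this
      rw [mem_Fx, ← this, mem_Fx.1 hx]
    · ext x
      exact (e ▸ mem_top x : x ∈ Fx (ζ : MulAut V))
  by_cases h1 : center A = ⊤
  · have := hC ⊥ fun c hc' => by
      by_contra h2
      have := hc c hc'
      rw [hz c (h1 ▸ mem_top c) h2, card_bot] at this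
      omega
    intro a ha
    have h3 : (⟨a, ha⟩ : A) ∈ (⊥ : Subgroup A) := this ▸ mem_top _
    exact congrArg Subtype.val (mem_bot.1 h3)
  exfalso
  have : Nontrivial (A ⧸ center A) := QuotientGroup.nontrivial_iff.2 h1
  have := (hA.to_quotient (center A)).center_nontrivial
  obtain ⟨⟨z, hz1⟩, hz2⟩ := exists_ne (1 : center (A ⧸ center A))
  obtain ⟨z, rfl⟩ := QuotientGroup.mk_surjective z
  obtain ⟨c, hc1, hc2⟩ : ∃ c ∈ C, c ∉ centralizer ({z} : Set A) := by
    by_contra h
    push Not at h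
    apply hz2
    apply Subtype.ext
    change (z : A ⧸ center A) = 1
    rw [QuotientGroup.eq_one_iff, mem_center_iff]
    intro g
    exact mem_centralizer_singleton_iff.1 (hC (centralizer {z}) h ▸ mem_top g)
  have h3 : z * c * z⁻¹ * c⁻¹ ∈ center A := by
    rw [← QuotientGroup.eq_one_iff]
    simp only [QuotientGroup.mk_mul, QuotientGroup.mk_inv]
    rw [← mem_center_iff.1 hz1 c]
    group
  set ζ := z * c * z⁻¹ * c⁻¹ with hζ
  have h4 : ζ ≠ 1 := fun e => hc2 (mem_centralizer_singleton_iff.2 (by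
    rw [hζ, mul_inv_eq_one, mul_inv_eq_iff_eq_mul] at e
    exact e.symm))
  have h5 : ζ * ζ ≠ 1 := by
    intro e
    have a1 := dvd_orderOf_of_isPGroup (R := ⊤) (hA.to_subgroup ⊤) (mem_top ζ) h4
    have a2 : orderOf ζ ∣ 2 := orderOf_dvd_of_pow_eq_one (by rw [pow_two, e])
    have := Nat.le_of_dvd (by norm_num) (a1.trans a2)
    omega
  have h6 := card_cube_le (ζ : MulAut V) c
    (congrArg Subtype.val (mem_center_iff.1 h3 c).symm) (hz _ (mul_mem h3 h3) h5)
  have e1 : ζ * c = z * c * z⁻¹ := by rw [hζ]; group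
  have e2 : ζ * ζ * c = z * (ζ * c) * z⁻¹ := by
    rw [← mul_assoc z, mem_center_iff.1 h3 z, mul_assoc ζ ζ, mul_assoc ζ z, mul_assoc ζ (z * c),
      ← e1]
  have f1 := card_Fx_conj (z : MulAut V) c
  have f2 := card_Fx_conj (z : MulAut V) (ζ * c)
  have e1' : (ζ : MulAut V) * c = z * c * (z : MulAut V)⁻¹ := congrArg Subtype.val e1
  have e2' : (ζ : MulAut V) * ζ * c = z * (ζ * c) * (z : MulAut V)⁻¹ := congrArg Subtype.val e2
  rw [e2', f2, e1', f1] at h6
  have h7 := hc c hc1
  generalize Nat.card (Fx (c : MulAut V)) = m at h6 h7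
  have h8 : m * (m * m) ≤ m * m := h6.trans (by rw [← pow_two]; exact h7)
  have h9 : 1 < m := by
    by_contra h
    have : m ^ 2 ≤ 1 ^ 2 := Nat.pow_le_pow_left (by omega) 2
    omega
  nlinarith

/-- action on an invariant subgroup -/
@[reducible] def subAct {P N : Type*} [Group P] [Group N] [MulDistribMulAction P N] (M : Subgroup N)
    (hM : ∀ (g : P), ∀ x ∈ M, g • x ∈ M) : MulDistribMulAction P M where
  smul g x := ⟨g • (x : N), hM g x x.2⟩
  one_smul x := Subtype.ext (one_smul P (x : N))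
  mul_smul g h x := Subtype.ext (mul_smul g h (x : N))
  smul_mul g x y := Subtype.ext (smul_mul' g (x : N) y)
  smul_one g := Subtype.ext (smul_one g)

/-- action on the quotient by an invariant subgroup -/
@[reducible] def quoAct {P N : Type*} [Group P] [Group N] [MulDistribMulAction P N] (M : Subgroup N)
    [M.Normal] (hM : ∀ (g : P), ∀ x ∈ M, g • x ∈ M) : MulDistribMulAction P (N ⧸ M) where
  smul g := QuotientGroup.map M M (MulDistribMulAction.toMonoidHom N g) (hM g)
  one_smul x := by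
    obtain ⟨x, rfl⟩ := QuotientGroup.mk_surjective x
    exact congrArg QuotientGroup.mk (one_smul P x)
  mul_smul g h x := by
    obtain ⟨x, rfl⟩ := QuotientGroup.mk_surjective x
    exact congrArg QuotientGroup.mk (mul_smul g h x)
  smul_mul g x y := map_mul _ x y
  smul_one g := map_one _

universe u

theorem core {P : Type*} [Group P] {p q : ℕ} [hp : Fact p.Prime] [hq : Fact q.Prime] (hp3 : 3 ≤ p)
    (hpq : p ≠ q) (hP : IsPGroup p P) (C D : Set P) (hC : ∀ S : Subgroup P, C ⊆ S → S = ⊤)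
    (hD : ∀ S : Subgroup P, D ⊆ S → S = ⊤) (n : ℕ) :
    ∀ (N : Type u) [Group N] [Finite N] [MulDistribMulAction P N], Nat.card N = n → IsPGroup q N →
      (∀ c ∈ C, ∀ d ∈ D, ∀ x : N, ∃ u v : N, d • u = u ∧ c • v = v ∧ x = u * v) →
      ∀ (g : P) (x : N), g • x = x := by
  induction n using Nat.strong_induction_on with
  | _ n ih =>
  intro N _ _ _ hn hN h
  have hcop : ∀ M : Subgroup N, ¬ p ∣ Nat.card M := by
    intro M e
    obtain ⟨k, hk⟩ := IsPGroup.iff_card.1 (hN.to_subgroup M)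
    rw [hk] at e
    exact hpq ((Nat.prime_dvd_prime_iff_eq hp.1 hq.1).1 (hp.1.dvd_of_dvd_pow e))
  by_cases h1 : ∃ M : Subgroup N, M.Normal ∧ (∀ (g : P), ∀ x ∈ M, g • x ∈ M) ∧ M ≠ ⊥ ∧ M ≠ ⊤
  · obtain ⟨M, hM1, hM2, hM3, hM4⟩ := h1
    have a1 : ∀ (g : P), ∀ x ∈ M, g • x = x := by
      letI := subAct M hM2
      intro g x hx
      refine congrArg Subtype.val (ih _ ?_ M rfl (hN.to_subgroup M) ?_ g ⟨x, hx⟩)
      · rw [← hn]
        exact lt_of_le_of_ne (card_le_card_group M) fun e => hM4 (eq_top_of_card_eq _ e)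
      intro c hc d hd y
      obtain ⟨u, v, hu, hv, e⟩ := h c hc d hd y
      have huv : u * v ∈ M := e ▸ y.2
      -- a common fixed point in the coset `u M`
      let X : SubMulAction (closure ({c, d} : Set P)) N :=
        { carrier := {w | u⁻¹ * w ∈ M}
          smul_mem' := by
            have key : ∀ g ∈ closure ({c, d} : Set P), u⁻¹ * g • u ∈ M := by
              intro g hg
              induction hg using closure_induction with
              | mem x hx =>
                rcases hx with rfl | rfl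
                · have b1 := hM2 x _ huv
                  rw [smul_mul', hv] at b1
                  have b2 := hM1.conj_mem _ (mul_mem b1 (inv_mem huv)) u⁻¹
                  simpa [mul_assoc] using b2
                · rw [hu]; simp
              | one => simp
              | mul x y _ _ h1 h2 =>
                have := mul_mem h1 (hM2 x _ h2)
                simpa [mul_smul] using this
              | inv x _ h1 =>
                have := inv_mem (hM2 x⁻¹ _ h1)
                simpa using this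
            intro g w hw
            have := mul_mem (key g g.2) (hM2 g _ hw)
            change u⁻¹ * (g : P) • w ∈ M
            simpa using this }
      have hX : Nat.card X = Nat.card M := Nat.card_congr
        ⟨fun w => ⟨u⁻¹ * w.1, w.2⟩, fun m => ⟨u * m, (by simp : u⁻¹ * (u * m) ∈ M)⟩,
          fun w => Subtype.ext (by simp), fun m => Subtype.ext (by simp)⟩
      obtain ⟨w, hw⟩ := (hP.to_subgroup (closure ({c, d} : Set P))).nonempty_fixed_point_of_prime_not_dvd_card
        X (hX ▸ hcop M)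
      have wc : c • (w : N) = w := congrArg Subtype.val (hw ⟨c, subset_closure (by simp)⟩)
      have wd : d • (w : N) = w := congrArg Subtype.val (hw ⟨d, subset_closure (by simp)⟩)
      have m1 : u * (w : N)⁻¹ ∈ M := by
        simpa [mul_assoc] using hM1.conj_mem _ (inv_mem (w.2 : u⁻¹ * w ∈ M)) u
      have m2 : (w : N) * v ∈ M := by
        simpa [mul_assoc] using mul_mem (inv_mem m1) huv
      refine ⟨⟨_, m1⟩, ⟨_, m2⟩, Subtype.ext ?_, Subtype.ext ?_, Subtype.ext ?_⟩
      · change d • (u * (w : N)⁻¹) = _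
        rw [smul_mul', smul_inv', hu, wd]
      · change c • ((w : N) * v) = _
        rw [smul_mul', hv, wc]
      · simp [e, mul_assoc]
    have a2 : ∀ (g : P) (x : N), x⁻¹ * g • x ∈ M := by
      letI := quoAct M hM2
      intro g x
      rw [← QuotientGroup.eq]
      refine (ih _ ?_ (N ⧸ M) rfl (hN.to_quotient M) ?_ g (x : N ⧸ M)).symm
      · rw [← hn, ← M.card_mul_index]
        exact lt_mul_of_one_lt_left Nat.card_pos (one_lt_card_iff_ne_bot _ |>.2 hM3)
      intro c hc d hd y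
      obtain ⟨y, rfl⟩ := QuotientGroup.mk_surjective y
      obtain ⟨u, v, hu, hv, e⟩ := h c hc d hd y
      exact ⟨u, v, congrArg QuotientGroup.mk hu, congrArg QuotientGroup.mk hv,
        congrArg QuotientGroup.mk e⟩
    intro g x
    have a3 : ∀ k : ℕ, g ^ k • x = x * (x⁻¹ * g • x) ^ k := by
      intro k
      induction k with
      | zero => simp
      | succ k ih =>
        rw [pow_succ', mul_smul, ih, smul_mul', a1 g _ (pow_mem (a2 g x) k), pow_succ',
          ← mul_assoc, mul_inv_cancel_left]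
    obtain ⟨k, hk⟩ := hP g
    have a4 := a3 (p ^ k)
    rw [hk, one_smul, left_eq_mul] at a4
    obtain ⟨l, hl⟩ := hN (x⁻¹ * g • x)
    have a5 : orderOf (x⁻¹ * g • x) = 1 := Nat.eq_one_of_dvd_coprimes
      (Nat.Coprime.pow _ _ ((Nat.coprime_primes hp.1 hq.1).2 hpq))
      (orderOf_dvd_of_pow_eq_one a4) (orderOf_dvd_of_pow_eq_one hl)
    exact (inv_mul_eq_one.1 (orderOf_eq_one_iff.1 a5)).symm
  push Not at h1
  rcases subsingleton_or_nontrivial N with hs | hs
  · exact fun _ _ => Subsingleton.elim _ _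
  have hZ : center N = ⊤ := h1 _ inferInstance (fun g x hx => by
    rw [mem_center_iff] at hx ⊢
    intro y
    have := congrArg (fun w => g • w) (hx (g⁻¹ • y))
    simpa using this) (nontrivial_iff_ne_bot _ |>.1 hN.center_nontrivial)
  letI : CommGroup N := { ‹Group N› with
    mul_comm := fun a b => (mem_center_iff.1 (hZ ▸ mem_top a : a ∈ center N) b).symm }
  let φ := MulDistribMulAction.toMulAut P N
  have key : ∀ E : Set P, (∀ S : Subgroup P, E ⊆ S → S = ⊤) →
      (∀ c ∈ E, Nat.card N ≤ Nat.card (Fx (φ c)) ^ 2) → ∀ (g : P) (x : N), g • x = x := by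
    intro E hE hc g x
    have := core_ab hp3 φ.range (hP.of_surjective _ φ.rangeRestrict_surjective)
      (fun M hM => by
        by_cases e : M = ⊥
        · exact Or.inl e
        · exact Or.inr (h1 M inferInstance (fun g x hx => hM _ ⟨g, rfl⟩ x hx) e))
      (φ.rangeRestrict '' E) (fun S hS => by
        have := hE (S.comap φ.rangeRestrict) fun c hc => hS ⟨c, hc, rfl⟩
        rw [eq_top_iff]
        intro a _
        obtain ⟨a, rfl⟩ := φ.rangeRestrict_surjective a
        exact (this ▸ mem_top a : a ∈ S.comap φ.rangeRestrict))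
      (by rintro _ ⟨c, hc', rfl⟩; exact hc c hc') (φ g) ⟨g, rfl⟩
    exact congrArg (fun a : MulAut N => a x) this
  have hprod : ∀ c ∈ C, ∀ d ∈ D, Nat.card N ≤ Nat.card (Fx (φ d)) * Nat.card (Fx (φ c)) := by
    intro c hc d hd
    rw [← Nat.card_prod]
    refine Nat.card_le_card_of_surjective (fun y : Fx (φ d) × Fx (φ c) => (y.1 : N) * y.2) fun x => ?_
    obtain ⟨u, v, hu, hv, e⟩ := h c hc d hd x
    exact ⟨(⟨u, hu⟩, ⟨v, hv⟩), e.symm⟩
  by_cases h2 : ∀ c ∈ C, Nat.card N ≤ Nat.card (Fx (φ c)) ^ 2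
  · exact key C hC h2
  · push Not at h2
    obtain ⟨c, hc, h3⟩ := h2
    refine key D hD fun d hd => ?_
    have := hprod c hc d hd
    by_contra h4
    push Not at h4
    nlinarith

/-- Let p ≥ 3 be prime and G a finite group with a Sylow p-subgroup P and a normal p-complement N (N normal, of order prime to p, with NP = G). Suppose P is generated by a subset C and also by a subset D, and that ⟨x c x⁻¹, d⟩ is a p-group for all x ∈ N, c ∈ C, d ∈ D. Then P centralizes N, so that G = N × P. -/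
theorem result {G : Type*} [Group G] [Finite G] (p : ℕ) [Fact p.Prime] (hp3 : 3 ≤ p) (P : Sylow p G)
    (N : Subgroup G) [N.Normal] (hN : (Nat.card N).Coprime p) (hNP : N ⊔ (P : Subgroup G) = ⊤)
    (C D : Set G) (hC : Subgroup.closure C = (P : Subgroup G)) (hD : Subgroup.closure D = (P : Subgroup G))
    (h : ∀ x ∈ N, ∀ c ∈ C, ∀ d ∈ D, IsPGroup p ↥(Subgroup.closure ({x * c * x⁻¹, d} : Set G))) :
    ⁅(P : Subgroup G), N⁆ = ⊥ := by
  have hPN : Disjoint (P : Subgroup G) N := by
    obtain ⟨k, hk⟩ := IsPGroup.iff_card.1 P.isPGroup'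
    exact disjoint_of_coprime_natCard (hk ▸ hN.symm.pow_left k)
  have hgen : ∀ E : Set G, closure E = (P : Subgroup G) → ∀ S : Subgroup (P : Subgroup G),
      {c : (P : Subgroup G) | (c : G) ∈ E} ⊆ S → S = ⊤ := by
    intro E hE S hS
    rw [eq_top_iff]
    intro g _
    have : (P : Subgroup G) ≤ S.map (P : Subgroup G).subtype := by
      intro x hx
      rw [← hE] at hx
      exact (closure_le (S.map (P : Subgroup G).subtype)).2 (fun c hc => ⟨⟨c, hE ▸ subset_closure hc⟩, hS hc, rfl⟩) hx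
    obtain ⟨y, hy, e⟩ := this g.2
    rwa [← Subtype.ext e]
  have hfix : ∀ y ∈ N, ∀ c ∈ (P : Subgroup G), y⁻¹ * c * y ∈ (P : Subgroup G) → c * y * c⁻¹ = y := by
    intro y hy c hc h1
    have : y⁻¹ * c * y * c⁻¹ = 1 := disjoint_def.1 hPN (mul_mem h1 (inv_mem hc)) (by
      simpa [mul_assoc] using mul_mem (inv_mem hy) (‹N.Normal›.conj_mem y hy c))
    rw [mul_assoc, mul_assoc, inv_mul_eq_one] at this
    rw [mul_assoc, ← this]
  rw [commutator_comm, commutator_eq_bot_iff_le_centralizer, ← relIndex_eq_one]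
  by_contra h1
  obtain ⟨q, hq, hqd⟩ := Nat.exists_prime_and_dvd h1
  have : Fact q.Prime := ⟨hq⟩
  have hpq : p ≠ q := by
    rintro rfl
    exact hq.ne_one (Nat.eq_one_of_dvd_coprimes hN (hqd.trans (relIndex_dvd_card _ _)) dvd_rfl)
  letI : MulAction (P : Subgroup G) (Sylow q N) :=
    MulAction.compHom (Sylow q N) ((MulAut.conjNormal : G →* MulAut N).comp (P : Subgroup G).subtype)
  obtain ⟨S0⟩ : Nonempty (Sylow q N) := inferInstance
  obtain ⟨S, hS⟩ := P.isPGroup'.nonempty_fixed_point_of_prime_not_dvd_card (Sylow q N)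
    fun h => (Fact.out : p.Prime).ne_one (Nat.eq_one_of_dvd_coprimes hN
      (h.trans (S0.card_dvd_index.trans (index_dvd_card _))) dvd_rfl)
  set Q : Subgroup G := (S : Subgroup N).map N.subtype with hQ
  have hn : (P : Subgroup G) ≤ normalizer (Q : Set G) := by
    have key : ∀ g ∈ (P : Subgroup G), ∀ y ∈ Q, g * y * g⁻¹ ∈ Q := by
      rintro g hg _ ⟨y, hy, rfl⟩
      have h1 : (MulAut.conjNormal g : MulAut N) • S = S := hS ⟨g, hg⟩
      refine ⟨MulAut.conjNormal g y, ?_, rfl⟩
      rw [← h1]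
      exact Subgroup.smul_mem_pointwise_smul _ _ _ hy
    intro g hg
    rw [mem_normalizer_iff]
    intro y
    refine ⟨key g hg y, fun h => ?_⟩
    simpa [mul_assoc] using key g⁻¹ (inv_mem hg) _ h
  have hQN : Q ≤ N := map_subtype_le _
  letI : MulDistribMulAction (P : Subgroup G) Q :=
    MulDistribMulAction.compHom Q (Q.normalizerMonoidHom.comp (inclusion hn))
  have := core hp3 hpq P.isPGroup' _ _ (hgen C hC) (hgen D hD) _ Q rfl (S.isPGroup'.map _) (by
    intro c hc d hd x
    have h2 := h x (hQN x.2) c hc d hd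
    have hle : closure ({(x : G) * c * (x : G)⁻¹, (d : G)} : Set G) ≤ Q ⊔ P := by
      rw [closure_le]
      rintro _ (rfl | rfl)
      · exact mul_mem (mul_mem (mem_sup_left x.2) (mem_sup_right c.2)) (inv_mem (mem_sup_left x.2))
      · exact mem_sup_right d.2
    obtain ⟨T, hT⟩ := (h2.of_equiv (subgroupOfEquivOfLe hle).symm).exists_le_sylow
    obtain ⟨g, rfl⟩ := exists_smul_eq (Q ⊔ P : Subgroup G) (P.subtype le_sup_right) T
    have h3 : (g : G) ∈ ((Q ⊔ P : Subgroup G) : Set G) := g.2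
    rw [coe_mul_of_right_le_normalizer_left _ _ hn] at h3
    obtain ⟨y, hy, k, hk, e⟩ := h3
    have h4 : ∀ w ∈ closure ({(x : G) * c * (x : G)⁻¹, (d : G)} : Set G),
        y⁻¹ * w * y ∈ (P : Subgroup G) := by
      intro w hw
      have a1 := hT (show (⟨w, hle hw⟩ : (Q ⊔ P : Subgroup G)) ∈ Subgroup.subgroupOf _ _ from hw)
      rw [mem_sylow_smul] at a1
      have a2 : (g : G)⁻¹ * w * g ∈ (P : Subgroup G) := a1
      rw [← e] at a2
      simpa [mul_assoc] using mul_mem (mul_mem hk a2) (inv_mem hk)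
    refine ⟨⟨y, hy⟩, (⟨y, hy⟩ : Q)⁻¹ * x, Subtype.ext ?_, Subtype.ext ?_, by simp⟩
    · exact hfix y (hQN hy) d d.2 (h4 _ (subset_closure (by simp)))
    · have a1 := hfix ((x : G)⁻¹ * y) (hQN (mul_mem (inv_mem x.2) hy)) c c.2 (by
        simpa [mul_assoc] using h4 _ (subset_closure (Set.mem_insert _ _)))
      have a2 := congrArg (·⁻¹) a1
      change (c : G) * (y⁻¹ * x) * (c : G)⁻¹ = y⁻¹ * x
      simpa [mul_assoc] using a2)
  refine S.not_dvd_index (hqd.trans (index_dvd_of_le fun y hy => ?_))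
  rw [mem_subgroupOf, mem_centralizer_iff]
  intro g hg
  have a1 : g * y * g⁻¹ = y := congrArg Subtype.val (this ⟨g, hg⟩ ⟨y, y, hy, rfl⟩)
  exact mul_inv_eq_iff_eq_mul.1 a1

end Cfsg.Agent.S2277
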