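import Cfsg.Statements.S2378
import Cfsg.Agent.H8.SylTor

set_option autoImplicit false
open Cfsg Cfsg.Agent.H7 Cfsg.Agent.H8

namespace Cfsg.Agent.S2378

/-- Certificates for the type `G2`. -/
def sylG2 : List (ℕ × ℕ × ℕ × List ℕ × List (List ℤ) × List (List ℤ) × List (List (List ℤ))) :=
  [(1, 0, 0x0, [], [[1, 0], [0, 1]], [[1, 0], [0, 1]], [[[1, 0]], [[0, 1]]]),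
   (2, 6, 0x8208, [1], [[-1, 0], [0, -1]], [[-1, 0], [0, -1]], [[[1, 0], [-1, 0]], [[0, 1], [0, -1]]]),
   (3, 4, 0x41, [1], [[1, 3], [-1, -2]], [[-1, 0]], [[[1, 1], [-1, -2], [0, 1]]]),
   (6, 2, 0x1, [3, 2], [[2, 3], [-1, -1]], [[-1, 0]], [[[-1, -1], [0, 1], [1, 2], [1, 1], [0, -1], [-1, -2]]])]

theorem okG2 : (∀ z ∈ sylG2, SylOK Lie.chevG2 fastG2 [2, 6] z) ∧ ∀ e ∈ [2, 6], ∀ d < e + 1, d ∣ e → ∃ z ∈ sylG2, z.1 = d := by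
  decide +kernel

/-- Certificates for the type `B2`. -/
def sylB2 : List (ℕ × ℕ × ℕ × List ℕ × List (List ℤ) × List (List ℤ) × List (List (List ℤ))) :=
  [(1, 0, 0x0, [], [[1, 0], [0, 1]], [[1, 0], [0, 1]], [[[1, 0]], [[0, 1]]]),
   (2, 4, 0x208, [1], [[-1, 0], [0, -1]], [[-1, 0], [0, -1]], [[[1, 0], [-1, 0]], [[0, 1], [0, -1]]]),
   (4, 2, 0x8, [2], [[-1, -2], [1, 1]], [[-1, 0]], [[[1, 1], [0, 1], [-1, -1], [0, -1]]])]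

theorem okB2 : (∀ z ∈ sylB2, SylOK Lie.chevB2 fastB2 [2, 4] z) ∧ ∀ e ∈ [2, 4], ∀ d < e + 1, d ∣ e → ∃ z ∈ sylB2, z.1 = d := by
  decide +kernel

/-- Certificates for the type `D4`. -/
def sylD4 : List (ℕ × ℕ × ℕ × List ℕ × List (List ℤ) × List (List ℤ) × List (List (List ℤ))) :=
  [(1, 0, 0x0, [], [[1, 0, 0, 0], [0, 1, 0, 0], [0, 0, 1, 0], [0, 0, 0, 1]], [[1, 0, 0, 0], [0, 1, 0, 0], [0, 0, 1, 0], [0, 0, 0, 1]], [[[1, 0, 0, 0]], [[0, 1, 0, 0]], [[0, 0, 1, 0]], [[0, 0, 0, 1]]]),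
   (2, 12, 0x6502c1408, [1], [[-1, 0, 0, 0], [0, -1, 0, 0], [0, 0, -1, 0], [0, 0, 0, -1]], [[-1, 0, 0, 0], [0, -1, 0, 0], [0, 0, -1, 0], [0, 0, 0, -1]], [[[1, 0, 0, 0], [-1, 0, 0, 0]], [[0, 1, 0, 0], [0, -1, 0, 0]], [[0, 0, 1, 0], [0, 0, -1, 0]], [[0, 0, 0, 1], [0, 0, 0, -1]]]),
   (3, 2, 0xb, [1], [[1, 1, 0, 0], [0, 0, 0, 1], [0, 1, 1, 0], [0, -1, 0, -1]], [[0, -1, 0, 0]], [[[0, 1, 0, 0], [0, -1, 0, -1], [0, 0, 0, 1]]]),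
   (4, 6, 0x11608, [2], [[0, 0, 0, -1], [-1, -1, -1, 0], [1, 2, 1, 1], [1, 0, 0, 0]], [[0, 0, 0, 1], [0, -1, 1, 0]], [[[0, 0, 0, -1], [1, 0, 0, 0], [0, 0, 0, 1], [-1, 0, 0, 0]], [[0, 1, 0, 0], [1, 1, 1, 0], [0, -1, 0, 0], [-1, -1, -1, 0]]]),
   (6, 4, 0x681, [3, 2], [[0, 1, 1, 1], [-1, -1, -1, -1], [1, 1, 0, 1], [1, 1, 1, 0]], [[1, 0, 0, 0]], [[[1, 1, 1, 1], [0, -1, 0, 0], [-1, -2, -1, -1], [-1, -1, -1, -1], [0, 1, 0, 0], [1, 2, 1, 1]]])]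

theorem okD4 : (∀ z ∈ sylD4, SylOK Lie.chevD4 fastD4 [2, 4, 4, 6] z) ∧ ∀ e ∈ [2, 4, 4, 6], ∀ d < e + 1, d ∣ e → ∃ z ∈ sylD4, z.1 = d := by
  decide +kernel

/-- Certificates for the type `F4`. -/
def sylF4 : List (ℕ × ℕ × ℕ × List ℕ × List (List ℤ) × List (List ℤ) × List (List (List ℤ))) :=
  [(1, 0, 0x0, [], [[1, 0, 0, 0], [0, 1, 0, 0], [0, 0, 1, 0], [0, 0, 0, 1]], [[1, 0, 0, 0], [0, 1, 0, 0], [0, 0, 1, 0], [0, 0, 0, 1]], [[[1, 0, 0, 0]], [[0, 1, 0, 0]], [[0, 0, 1, 0]], [[0, 0, 0, 1]]]),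
   (2, 24, 0x68a05345029a281408, [1], [[-1, 0, 0, 0], [0, -1, 0, 0], [0, 0, -1, 0], [0, 0, 0, -1]], [[-1, 0, 0, 0], [0, -1, 0, 0], [0, 0, -1, 0], [0, 0, 0, -1]], [[[1, 0, 0, 0], [-1, 0, 0, 0]], [[0, 1, 0, 0], [0, -1, 0, 0]], [[0, 0, 1, 0], [0, 0, -1, 0]], [[0, 0, 0, 1], [0, 0, 0, -1]]]),
   (3, 16, 0x2814d140a60a, [1], [[0, 1, 2, 0], [1, 1, 2, 2], [-1, -1, -2, -1], [0, -1, -1, -1]], [[-1, 0, 0, 0], [0, 1, 0, 0]], [[[1, 0, 0, 1], [-1, 0, -1, 0], [0, 0, 1, -1]], [[0, -1, -1, 0], [0, 1, 1, 1], [0, 0, 0, -1]]]),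
   (4, 12, 0x65029940a, [2], [[1, 2, 2, 0], [0, 1, 2, 2], [-1, -2, -3, -2], [1, 1, 2, 1]], [[1, 1, -2, 1], [0, 1, 0, 0]], [[[1, 0, 1, 0], [0, 0, 1, 2], [-1, 0, -1, 0], [0, 0, -1, -2]], [[0, -1, 0, 1], [-1, 0, 0, 1], [0, 1, 0, -1], [1, 0, 0, -1]]]),
   (6, 8, 0x2814ca, [3, 2], [[1, 1, 2, 0], [1, 2, 2, 2], [-1, -1, -1, -1], [0, -1, -1, 0]], [[0, -1, 1, 0], [0, 1, 0, 0]], [[[1, 0, 1, 0], [1, 0, 0, 1], [0, 0, -1, 1], [-1, 0, -1, 0], [-1, 0, 0, -1], [0, 0, 1, -1]], [[0, 1, 1, 0], [0, 0, 0, -1], [0, -1, -1, -1], [0, -1, -1, 0], [0, 0, 0, 1], [0, 1, 1, 1]]]),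
   (8, 6, 0x1a051, [4], [[1, 2, 2, 2], [-1, -1, 0, 0], [0, 0, -1, -1], [1, 1, 2, 1]], [[-1, 0, 1, -1]], [[[0, 0, -1, 0], [0, -1, -1, -1], [-1, -1, -1, 0], [0, 0, -1, -1], [0, 0, 1, 0], [0, 1, 1, 1], [1, 1, 1, 0], [0, 0, 1, 1]]]),
   (12, 4, 0x60a, [6, 4], [[0, 1, 0, 0], [1, 1, 2, 2], [-1, -1, -1, -1], [1, 1, 1, 0]], [[0, 1, 0, 0]], [[[0, 1, 0, -1], [1, 0, 1, 1], [-1, 0, -1, 0], [1, 0, 0, -1], [-1, -1, -1, 1], [0, 0, -1, -2], [0, -1, 0, 1], [-1, 0, -1, -1], [1, 0, 1, 0], [-1, 0, 0, 1], [1, 1, 1, -1], [0, 0, 1, 2]]])]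

theorem okF4 : (∀ z ∈ sylF4, SylOK Lie.chevF4 fastF4 [2, 6, 8, 12] z) ∧ ∀ e ∈ [2, 6, 8, 12], ∀ d < e + 1, d ∣ e → ∃ z ∈ sylF4, z.1 = d := by
  decide +kernel

/-- Certificates for the type `E6`. -/
def sylE6 : List (ℕ × ℕ × ℕ × List ℕ × List (List ℤ) × List (List ℤ) × List (List (List ℤ))) :=
  [(1, 0, 0x0, [], [[1, 0, 0, 0, 0, 0], [0, 1, 0, 0, 0, 0], [0, 0, 1, 0, 0, 0], [0, 0, 0, 1, 0, 0], [0, 0, 0, 0, 1, 0], [0, 0, 0, 0, 0, 1]], [[1, 0, 0, 0, 0, 0], [0, 1, 0, 0, 0, 0], [0, 0, 1, 0, 0, 0], [0, 0, 0, 1, 0, 0], [0, 0, 0, 0, 1, 0], [0, 0, 0, 0, 0, 1]], [[[1, 0, 0, 0, 0, 0]], [[0, 1, 0, 0, 0, 0]], [[0, 0, 1, 0, 0, 0]], [[0, 0, 0, 1, 0, 0]], [[0, 0, 0, 0, 1, 0]], [[0, 0, 0, 0, 0, 1]]]),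
   (2, 12, 0x8d171a2d1, [1], [[1, 1, 2, 2, 1, 0], [0, -1, 0, 0, 0, 0], [0, 0, -1, 0, 0, 0], [0, 0, 0, -1, 0, 0], [0, 0, 0, 0, -1, 0], [0, 1, 1, 2, 2, 1]], [[0, 0, -1, 0, 0, 0], [0, 0, 0, -1, 0, 0], [0, 0, 0, 0, -1, 0], [0, -1, 0, 0, 0, 0]], [[[0, 0, 1, 0, 0, 0], [0, 0, -1, 0, 0, 0]], [[0, 0, 0, 1, 0, 0], [0, 0, 0, -1, 0, 0]], [[0, 0, 0, 0, 1, 0], [0, 0, 0, 0, -1, 0]], [[0, 1, 0, 0, 0, 0], [0, -1, 0, 0, 0, 0]]]),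
   (3, 24, 0xa5c4c22e52e2611713, [1], [[0, 1, 1, 1, 1, 0], [0, 0, 1, 1, 1, 1], [0, 0, 0, 1, 0, 0], [0, 0, -1, -1, 0, 0], [-1, -1, -1, -2, -2, -1], [1, 0, 1, 1, 1, 0]], [[1, 0, 0, 0, -1, 1], [0, 0, -1, 0, 1, 0], [0, 1, 0, 0, 0, 0]], [[[0, 0, 0, 0, 0, -1], [1, 0, 1, 1, 1, 1], [-1, 0, -1, -1, -1, 0]], [[0, 0, 1, 0, 0, 0], [0, 0, -1, -1, 0, 0], [0, 0, 0, 1, 0, 0]], [[0, -1, 0, 0, 0, 0], [0, 1, 1, 1, 1, 1], [0, 0, -1, -1, -1, -1]]]),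
   (4, 10, 0x22611610, [2], [[0, -1, 0, 0, 0, 0], [1, 0, 0, 0, 0, 0], [0, 0, 0, -1, -1, 0], [-1, 0, -1, 0, 0, 0], [1, 1, 2, 2, 1, 0], [0, 0, 0, 0, 1, 1]], [[0, -1, 0, 0, 0, 0], [0, 0, 1, 0, -1, 0]], [[[0, 1, 0, 0, 0, 0], [-1, 0, 0, 0, 0, 0], [0, -1, 0, 0, 0, 0], [1, 0, 0, 0, 0, 0]], [[0, 0, -1, -1, 0, 0], [-1, 0, -1, -1, -1, 0], [0, 0, 1, 1, 0, 0], [1, 0, 1, 1, 1, 0]]]),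
   (5, 4, 0x4e5, [1], [[1, 0, 1, 0, 0, 0], [0, 1, 1, 1, 0, 0], [0, 0, 0, 1, 0, 0], [0, 0, 0, 0, 1, 0], [0, 0, 0, 0, 0, 1], [0, 0, -1, -1, -1, -1]], [[0, 0, -1, 0, 0, 0]], [[[0, 0, 1, 0, 0, 0], [0, 0, -1, -1, -1, -1], [0, 0, 0, 0, 0, 1], [0, 0, 0, 0, 1, 0], [0, 0, 0, 1, 0, 0]]]),
   (6, 12, 0x61172a702, [3, 2], [[0, 0, 0, 1, 1, 0], [1, 1, 1, 1, 1, 0], [0, -1, -1, -2, -1, 0], [0, 1, 1, 2, 1, 1], [0, -1, 0, -1, -1, -1], [-1, 0, -1, -1, 0, 0]], [[0, 0, -1, 1, 0, 0], [1, 1, -1, 0, 0, 0]], [[[0, 0, 0, 1, 0, 0], [0, -1, -1, -1, -1, -1], [0, -1, -1, -2, -1, -1], [0, 0, 0, -1, 0, 0], [0, 1, 1, 1, 1, 1], [0, 1, 1, 2, 1, 1]], [[0, 1, 0, 0, 0, 0], [-1, 0, -1, -1, -1, 0], [-1, -1, -1, -1, -1, 0], [0, -1, 0, 0, 0, 0], [1, 0, 1, 1, 1,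 0], [1, 1, 1, 1, 1, 0]]]),
   (8, 5, 0x42c2, [4], [[0, 1, 1, 1, 1, 0], [0, 0, 0, 1, 1, 0], [-1, -1, -1, -1, -1, 0], [1, 0, 1, 0, 0, 0], [0, 1, 0, 1, 0, 0], [0, 0, 0, 0, 1, 1]], [[0, 1, 0, -1, 0, 0]], [[[0, 0, 0, 1, 0, 0], [0, 1, 1, 1, 1, 0], [1, 0, 0, 0, 0, 0], [-1, 0, -1, 0, 0, 0], [0, 0, 0, -1, 0, 0], [0, -1, -1, -1, -1, 0], [-1, 0, 0, 0, 0, 0], [1, 0, 1, 0, 0, 0]]]),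
   (9, 8, 0x4c22e5, [3], [[0, 0, 0, 1, 0, 0], [1, 0, 0, 0, 0, 0], [0, 1, 0, 0, 0, 0], [0, 0, 1, 1, 1, 0], [0, 0, 0, 0, 0, 1], [-1, -1, -2, -2, -1, -1]], [[1, 0, 0, 0, 0, 0]], [[[-1, 0, 0, 0, 0, 0], [0, -1, 0, 0, 0, 0], [0, 0, -1, 0, 0, 0], [1, 1, 1, 1, 1, 1], [0, 1, 1, 1, 1, 0], [0, 0, 1, 1, 0, 0], [0, -1, -1, -1, -1, -1], [0, 0, -1, -1, -1, 0], [0, 0, 0, -1, 0, 0]]]),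
   (12, 6, 0x13948, [6, 4], [[-1, 0, -1, 0, 0, 0], [0, -1, -1, -1, 0, 0], [1, 0, 1, 1, 0, 0], [0, 1, 1, 1, 1, 0], [0, 0, 0, 0, 0, 1], [0, 0, -1, -1, -1, -1]], [[0, 0, -1, 0, 0, 0]], [[[-1, -1, -1, 0, 0, 1], [1, 0, 0, -1, 0, -1], [-1, 1, 0, 1, 0, 1], [1, -1, 0, 0, 1, 0], [0, 2, 1, 1, 0, 0], [0, -1, 0, 1, 1, 1], [1, 1, 1, 0, 0, -1], [-1, 0, 0, 1, 0, 1], [1, -1, 0, -1, 0, -1], [-1, 1, 0, 0, -1, 0], [0, -2, -1, -1, 0, 0], [0, 1, 0, -1, -1, -1]]])]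

theorem okE6 : (∀ z ∈ sylE6, SylOK Lie.chevE6 fastE6 [2, 5, 6, 8, 9, 12] z) ∧ ∀ e ∈ [2, 5, 6, 8, 9, 12], ∀ d < e + 1, d ∣ e → ∃ z ∈ sylE6, z.1 = d := by
  decide +kernel

/-- Certificates for the type `E7`. -/
def sylE7 : List (ℕ × ℕ × ℕ × List ℕ × List (List ℤ) × List (List ℤ) × List (List (List ℤ))) :=
  [(1, 0, 0x0, [], [[1, 0, 0, 0, 0, 0, 0], [0, 1, 0, 0, 0, 0, 0], [0, 0, 1, 0, 0, 0, 0], [0, 0, 0, 1, 0, 0, 0], [0, 0, 0, 0, 1, 0, 0], [0, 0, 0, 0, 0, 1, 0], [0, 0, 0, 0, 0, 0, 1]], [[1, 0, 0, 0, 0, 0, 0], [0, 1, 0, 0, 0, 0, 0], [0, 0, 1, 0, 0, 0, 0], [0, 0, 0, 1, 0, 0, 0], [0, 0, 0, 0, 1, 0, 0], [0, 0, 0, 0, 0, 1, 0], [0, 0, 0, 0, 0, 0, 1]], [[[1, 0, 0, 0, 0, 0, 0]], [[0, 1, 0, 0, 0, 0, 0]], [[0, 0, 1, 0, 0, 0, 0]], [[0,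 0, 0, 1, 0, 0, 0]], [[0, 0, 0, 0, 1, 0, 0]], [[0, 0, 0, 0, 0, 1, 0]], [[0, 0, 0, 0, 0, 0, 1]]]),
   (2, 63, 0x1ac68b9704e52e261172e09ca5c4c22e52e261171308b088, [1], [[-1, 0, 0, 0, 0, 0, 0], [0, -1, 0, 0, 0, 0, 0], [0, 0, -1, 0, 0, 0, 0], [0, 0, 0, -1, 0, 0, 0], [0, 0, 0, 0, -1, 0, 0], [0, 0, 0, 0, 0, -1, 0], [0, 0, 0, 0, 0, 0, -1]], [[-1, 0, 0, 0, 0, 0, 0], [0, -1, 0, 0, 0, 0, 0], [0, 0, -1, 0, 0, 0, 0], [0, 0, 0, -1, 0, 0, 0], [0, 0, 0, 0, -1, 0, 0], [0, 0, 0, 0, 0, -1, 0], [0, 0, 0, 0, 0, 0, -1]], [[[1, 0, 0, 0, 0, 0, 0], [-1, 0, 0, 0, 0, 0, 0]], [[0, 1, 0, 0, 0, 0, 0], [0, -1, 0, 0, 0, 0, 0]], [[0, 0, 1, 0, 0, 0, 0], [0, 0, -1, 0, 0, 0, 0]], [[0, 0, 0, 1, 0, 0, 0], [0, 0, 0, -1, 0, 0, 0]], [[0, 0, 0, 0, 1, 0, 0], [0,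 0, 0, 0, -1, 0, 0]], [[0, 0, 0, 0, 0, 1, 0], [0, 0, 0, 0, 0, -1, 0]], [[0, 0, 0, 0, 0, 0, 1], [0, 0, 0, 0, 0, 0, -1]]]),
   (3, 24, 0x9ca5c4c22e545c459, [1], [[0, 0, 1, 1, 1, 1, 0], [0, -1, -1, -1, 0, 0, 0], [0, 1, 0, 1, 1, 0, 0], [0, 0, 0, -1, -1, 0, 0], [0, 0, 0, 1, 0, 0, 0], [-1, -1, -1, -2, -1, -1, 0], [2, 2, 3, 4, 3, 2, 1]], [[-1, 0, 0, 1, 0, 0, 0], [0, 1, -1, 0, 0, 1, 0], [1, 0, 0, 0, 0, 0, 0]], [[[0, 0, 0, -1, -1, 0, 0], [0, 0, 0, 1, 0, 0, 0], [0, 0, 0, 0, 1, 0, 0]], [[0, -1, 0, 0, -1, 0, 0], [0, 0, -1, 0, 1, 0, 0], [0, 1, 1, 0, 0, 0, 0]], [[-1, 0, 0, -1, 0, 0, 0], [1, 0, 1, 1, 0, 1, 0], [0, 0, -1, 0, 0, -1, 0]]]),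
   (4, 8, 0x96345a, [2], [[1, 1, 1, 1, 1, 1, 0], [0, 0, 1, 0, 0, 0, 0], [0, -1, 0, 0, 0, 0, 0], [0, 0, -1, -1, -1, -1, 0], [0, 1, 1, 2, 2, 1, 0], [0, 0, 0, 0, -1, 0, 0], [0, 0, 0, 0, 1, 1, 1]], [[0, 1, 0, 0, 0, 0, 0], [0, 0, 0, -1, 1, 0, 0]], [[[0, -1, 0, 0, 0, 0, 0], [0, 0, 1, 0, 0, 0, 0], [0, 1, 0, 0, 0, 0, 0], [0, 0, -1, 0, 0, 0, 0]], [[0, 0, 0, 1, 0, 0, 0], [0, 0, 1, 1, 1, 1, 0], [0, 0, 0, -1, 0, 0, 0], [0, 0, -1, -1, -1, -1, 0]]]),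
   (5, 8, 0xd5308b, [1], [[0, 0, 0, 1, 0, 0, 0], [1, 0, 0, 0, 0, 0, 0], [0, 1, 0, 0, 0, 0, 0], [-1, -1, -1, -1, 0, 0, 0], [1, 1, 2, 2, 1, 1, 1], [0, 0, 0, 0, 0, -1, -1], [0, 0, 0, 0, 0, 1, 0]], [[0, 0, 1, 0, 0, 0, 0]], [[[0, 0, -1, 0, 0, 0, 0], [1, 1, 1, 1, 0, 0, 0], [0, 0, 0, -1, 0, 0, 0], [-1, 0, 0, 0, 0, 0, 0], [0, -1, 0, 0, 0, 0, 0]]]),
   (6, 21, 0x4ae261172e2e5459, [3, 2], [[1, 1, 1, 1, 1, 1, 0], [-1, -1, -1, -2, -1, 0, 0], [0, 0, 1, 1, 0, 0, 0], [0, 0, -1, 0, 0, 0, 0], [1, 1, 2, 2, 2, 1, 1], [-1, 0, -1, -1, -1, -1, -1], [0, -1, -1, -2, -2, -1, 0]], [[0, 1, 0, 0, -1, 0, 1], [1, -1, 0, 0, 1, 0, -1], [0, -1, 0, -1, 1, 0, 0]], [[[1, 0, 0, 0, 0, 0, 1], [0, 0, 0, 1, 1, 0, 1], [-1, 0, 0, 1, 1, 0, 0], [-1, 0, 0, 0, 0, 0,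 -1], [0, 0, 0, -1, -1, 0, -1], [1, 0, 0, -1, -1, 0, 0]], [[1, 0, -1, 0, 0, 0, 0], [0, -1, -1, 0, -1, -1, 0], [-1, -1, 0, 0, -1, -1, 0], [-1, 0, 1, 0, 0, 0, 0], [0, 1, 1, 0, 1, 1, 0], [1, 1, 0, 0, 1, 1, 0]], [[0, 0, -1, -1, 0, 0, 0], [0, 0, -1, 0, 0, 0, 0], [0, 0, 0, 1, 0, 0, 0], [0, 0, 1, 1, 0, 0, 0], [0, 0, 1, 0, 0, 0, 0], [0, 0, 0, -1, 0, 0, 0]]]),
   (7, 8, 0xb9c4c8, [1], [[-1, 0, -1, -1, 0, 0, 0], [0, -1, -1, -2, -1, -1, 0], [1, 0, 1, 1, 1, 1, 0], [0, 1, 0, 1, 0, 0, 0], [0, 0, 1, 0, 0, 0, 0], [0, 0, 0, 1, 1, 1, 1], [0, 0, 0, 0, 0, -1, -1]], [[1, 0, 0, 0, 0, 0, 0]], [[[-1, 0, -1, -1, 0, 0, 0], [1, 0, 0, 0, 0, 0, 0], [0, 1, 1, 1, 0, 0, 0], [0, 0, 0, 1, 1, 0, 0], [0, 0, 0, 0, 0, 1, 1], [0, 0, 0, 0, 0, 0, -1], [0, -1, 0,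 -1, -1, -1, 0]]]),
   (8, 7, 0x1422e0, [4], [[0, 0, -1, 0, 0, 0, 0], [1, 0, 1, 1, 0, 0, 0], [0, 1, 1, 1, 0, 0, 0], [0, 0, 0, 0, 1, 1, 0], [-1, -1, -1, -1, -1, -1, 0], [1, 1, 1, 1, 1, 0, 0], [0, 0, 0, 0, 0, 1, 1]], [[0, -1, 0, 1, 0, 0, 0]], [[[0, 0, 0, -1, 0, 0, 0], [-1, -1, -1, -1, -1, 0, 0], [0, 0, 0, 0, 0, -1, 0], [0, 0, 0, 0, 1, 1, 0], [0, 0, 0, 1, 0, 0, 0], [1, 1, 1, 1, 1, 0, 0], [0, 0, 0, 0, 0, 1, 0], [0, 0, 0, 0, -1, -1, 0]]]),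
   (9, 8, 0x958459, [3], [[0, 0, 1, 1, 1, 0, 0], [-1, 0, -1, 0, 0, 0, 0], [0, 1, 0, 0, 0, 0, 0], [0, -1, 0, -1, -1, 0, 0], [1, 1, 1, 2, 2, 1, 0], [0, 0, 0, 0, -1, -1, 0], [0, 0, 0, 0, 1, 1, 1]], [[-1, 0, 0, 0, 0, 0, 0]], [[[1, 0, 1, 0, 0, 0, 0], [0, -1, 0, 0, 0, 0, 0], [0, 0, -1, 0, 0, 0, 0], [-1, 0, -1, -1, 0, 0, 0], [0, 0, 0, -1, -1, -1, 0], [0, -1, 0, -1, -1, 0, 0], [0, 0, 0, 1, 0, 0, 0], [0, 1, 0, 1, 1, 1, 0], [0, 1, 1, 1, 1, 0, 0]]]),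
   (10, 6, 0x1cb91, [5, 2], [[1, 0, 1, 1, 0, 0, 0], [0, -1, 0, -1, 0, 0, 0], [0, 0, -1, -1, 0, 0, 0], [0, 1, 1, 2, 1, 0, 0], [0, 0, 0, 0, 0, 1, 0], [0, 0, 0, 0, 0, 0, 1], [0, 0, 0, -1, -1, -1, -1]], [[0, 0, 0, -1, 1, 0, 0]], [[[0, 0, 0, 0, 1, 1, 0], [0, 1, 1, 1, 1, 0, 0], [0, 1, 1, 2, 1, 1, 1], [0, 0, 0, 1, 1, 1, 0], [0, 0, 0, 0, 0, -1, -1], [0, 0, 0, 0, -1, -1, 0], [0, -1, -1, -1, -1, 0, 0], [0, -1, -1, -2, -1, -1, -1], [0, 0, 0, -1, -1, -1, 0], [0, 0, 0, 0, 0, 1, 1]]]),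
   (12, 6, 0x2c611, [6, 4], [[0, 0, 1, 1, 1, 1, 0], [0, -1, 0, -1, -1, -1, 0], [-1, 0, -1, -1, -1, -1, 0], [1, 1, 1, 1, 1, 1, 0], [0, 0, 0, 1, 0, 0, 0], [0, 0, 0, 0, 1, 0, 0], [0, 0, 0, 0, 0, 1, 1]], [[0, 0, -1, 0, 0, 0, 0]], [[[0, 1, -1, -1, 0, 0, 0], [-1, -1, 0, 0, -1, 0, 0], [1, 0, 0, -1, 0, -1, 0], [-1, 1, 0, 1, 0, 1, 0], [1, -1, 1, 0, 0, -1, 0], [0, 2, 0, 1, 1, 1, 0], [0, -1, 1, 1, 0, 0, 0], [1, 1, 0, 0, 1, 0, 0], [-1, 0, 0, 1, 0, 1, 0], [1, -1, 0, -1, 0, -1, 0], [-1, 1, -1, 0, 0, 1, 0], [0, -2, 0, -1, -1, -1, 0]]]),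
   (14, 27, 0x15c4c22e5d2c4c22e2611, [7, 2], [[0, 1, 1, 2, 1, 0, 0], [-1, -1, -1, -2, -2, -1, 0], [-1, -1, -2, -3, -2, -1, -1], [1, 1, 2, 3, 3, 2, 1], [0, -1, -1, -2, -2, -2, -1], [1, 2, 2, 3, 2, 2, 1], [-1, -1, -2, -2, -1, -1, 0]], [[0, 0, 0, 0, 1, 0, 0]], [[[0, -1, 0, 0, 1, 0, 0], [0, 0, 0, 1, 0, -1, 0], [0, -1, -2, -2, -1, -1, 0], [-1, -1, -1, -1, 0, 0, 1], [0, 1, 0, 1, 0, 0, 1], [0, 0, -1, -1, 0, 1, 1], [-1, 0, 0, 0, 0, 1, 1], [0, 1, 0, 0, -1, 0, 0], [0, 0, 0, -1, 0, 1, 0], [0, 1, 2, 2, 1, 1, 0], [1, 1, 1, 1, 0, 0, -1], [0, -1, 0, -1, 0, 0, -1], [0, 0, 1, 1, 0, -1, -1], [1, 0, 0, 0, 0, -1, -1]]]),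
   (18, 9, 0x5d11610, [9, 6], [[0, -1, 0, -1, -1, -1, 0], [0, 0, 1, 1, 1, 1, 0], [-1, 0, -1, 0, 0, 0, 0], [1, 0, 0, 0, 0, 0, 0], [0, 1, 1, 1, 0, 0, 0], [0, 0, 0, 0, 1, 1, 1], [0, 0, 0, 0, 0, -1, -1]], [[0, 1, 0, 0, 0, 0, 0]], [[[0, 1, 0, 1, 0, 0, -1], [-1, 0, 0, 0, 0, -1, 0], [1, 0, 1, 0, 1, 1, 1], [0, 0, -1, 0, 0, 1, 0], [-1, 0, 0, 0, -1, -1, -1], [0, 0, 0, -1, 0, -1, 0], [0, -1, -1, -1, 0, 1, 1], [0, 0, 0, 0, -1, 0, -1], [-1, 0, -1, -1, -1, -2, -1], [0, -1, 0, -1, 0, 0, 1], [1, 0, 0, 0, 0, 1, 0], [-1, 0, -1, 0, -1, -1, -1], [0, 0, 1, 0, 0, -1, 0], [1, 0, 0, 0, 1, 1, 1], [0, 0, 0, 1, 0, 1, 0], [0, 1, 1, 1, 0, -1, -1], [0, 0, 0, 0, 1, 0, 1], [1, 0, 1, 1, 1, 2, 1]]])]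

theorem okE7 : (∀ z ∈ sylE7, SylOK Lie.chevE7 fastE7 [2, 6, 8, 10, 12, 14, 18] z) ∧ ∀ e ∈ [2, 6, 8, 10, 12, 14, 18], ∀ d < e + 1, d ∣ e → ∃ z ∈ sylE7, z.1 = d := by
  decide +kernel

/-- Certificates for the type `E8`. -/
def sylE8 : List (ℕ × ℕ × ℕ × List ℕ × List (List ℤ) × List (List ℤ) × List (List (List ℤ))) :=
  [(1, 0, 0x0, [], [[1, 0, 0, 0, 0, 0, 0, 0], [0, 1, 0, 0, 0, 0, 0, 0], [0, 0, 1, 0, 0, 0, 0, 0], [0, 0, 0, 1, 0, 0, 0, 0], [0, 0, 0, 0, 1, 0, 0, 0], [0, 0, 0, 0, 0, 1, 0, 0], [0, 0, 0, 0, 0, 0, 1, 0], [0, 0, 0, 0, 0, 0, 0, 1]], [[1, 0, 0, 0, 0, 0, 0, 0], [0, 1, 0, 0, 0, 0, 0, 0], [0, 0, 1, 0, 0, 0, 0, 0], [0, 0, 0, 1, 0, 0, 0, 0], [0, 0, 0, 0, 1, 0, 0, 0], [0, 0, 0, 0, 0, 1, 0, 0], [0, 0, 0, 0, 0, 0, 1, 0],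 [0, 0, 0, 0, 0, 0, 0, 1]], [[[1, 0, 0, 0, 0, 0, 0, 0]], [[0, 1, 0, 0, 0, 0, 0, 0]], [[0, 0, 1, 0, 0, 0, 0, 0]], [[0, 0, 0, 1, 0, 0, 0, 0]], [[0, 0, 0, 0, 1, 0, 0, 0]], [[0, 0, 0, 0, 0, 1, 0, 0]], [[0, 0, 0, 0, 0, 0, 1, 0]], [[0, 0, 0, 0, 0, 0, 0, 1]]]),
   (2, 120, 0xfac68b9704e52e261172efac68b9704e52e261172efac68b9704e52e261172e09ca5c4c22e52e261171308b088, [1], [[-1, 0, 0, 0, 0, 0, 0, 0], [0, -1, 0, 0, 0, 0, 0, 0], [0, 0, -1, 0, 0, 0, 0, 0], [0, 0, 0, -1, 0, 0, 0, 0], [0, 0, 0, 0, -1, 0, 0, 0], [0, 0, 0, 0, 0, -1, 0, 0], [0, 0, 0, 0, 0, 0, -1, 0], [0, 0, 0, 0, 0, 0, 0, -1]], [[-1, 0, 0, 0, 0, 0, 0, 0], [0, -1, 0, 0, 0, 0, 0, 0], [0, 0, -1, 0, 0, 0, 0, 0], [0, 0, 0, -1, 0, 0, 0, 0], [0, 0, 0, 0, -1, 0, 0, 0], [0, 0, 0,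 0, 0, -1, 0, 0], [0, 0, 0, 0, 0, 0, -1, 0], [0, 0, 0, 0, 0, 0, 0, -1]], [[[1, 0, 0, 0, 0, 0, 0, 0], [-1, 0, 0, 0, 0, 0, 0, 0]], [[0, 1, 0, 0, 0, 0, 0, 0], [0, -1, 0, 0, 0, 0, 0, 0]], [[0, 0, 1, 0, 0, 0, 0, 0], [0, 0, -1, 0, 0, 0, 0, 0]], [[0, 0, 0, 1, 0, 0, 0, 0], [0, 0, 0, -1, 0, 0, 0, 0]], [[0, 0, 0, 0, 1, 0, 0, 0], [0, 0, 0, 0, -1, 0, 0, 0]], [[0, 0, 0, 0, 0, 1, 0, 0], [0, 0, 0, 0, 0, -1, 0, 0]], [[0, 0, 0, 0, 0, 0, 1, 0], [0, 0, 0, 0, 0, 0, -1, 0]], [[0, 0, 0, 0, 0, 0, 0, 1], [0, 0, 0, 0, 0, 0, 0, -1]]]),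
   (3, 80, 0x4c22e5df58d172e09ca5c4c22e5dd39704e52e261172e71308b95c4c22e0, [1], [[-1, -1, -1, -1, -1, -1, -1, 0], [1, 0, 1, 1, 1, 1, 0, 0], [1, 1, 1, 2, 2, 2, 2, 1], [0, 1, 1, 1, 1, 0, 0, 0], [-2, -3, -4, -6, -5, -3, -2, -1], [1, 1, 2, 3, 2, 1, 1, 0], [0, 0, -1, -1, -1, -1, -1, 0], [0, 1, 1, 2, 2, 2, 1, 0]], [[0, 0, 0, -1, 1, 0, 0, 0], [0, 0, 0, 0, 0, 0, 0, 1], [0, 0, -1, 0, 1, -1, 1, 0], [1, -1, -1, 0, 2, -1, 0, 0]], [[[0, 0, 0, 1, 0, 0, 0, 0], [0, -1, -1, -2, -1, 0, 0, 0], [0, 1, 1, 1, 1, 0, 0, 0]], [[0, 0, 0, 0, 0, 0, 0, -1], [0, 1, 1, 2, 2, 2, 1, 1], [0, -1, -1, -2, -2, -2, -1, 0]], [[0, 0, 0, 0, 0, 0, -1, 0], [0, 0, -1, -1, -1, -1, 0, 0], [0, 0, 1, 1, 1, 1, 1, 0]], [[-1, 0, 0, 0, 0, 0, 0, 0], [0, -1, -1, -1, -1, -1,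 -1, 0], [1, 1, 1, 1, 1, 1, 1, 0]]]),
   (4, 60, 0x9772e5c1394b89845cbbe94b89845cb9308b9538c22c2, [2], [[1, 2, 2, 3, 2, 2, 1, 1], [0, 1, 1, 2, 2, 2, 2, 1], [-2, -3, -4, -6, -5, -4, -2, -1], [0, 0, 0, 0, 0, 0, -1, -1], [2, 2, 3, 4, 3, 2, 2, 1], [-1, -1, -1, -2, -1, -1, -1, 0], [0, -1, -1, -1, -1, 0, 0, 0], [0, 1, 1, 2, 1, 0, 0, 0]], [[1, 0, 0, -1, 1, 0, 0, 0], [1, 0, -2, 0, 2, -1, 0, 0], [1, 0, -1, 0, 1, 0, -1, 1], [0, 1, -1, 0, 0, 0, 0, 0]], [[[0, 0, 0, 1, 0, 0, 0, 0], [0, 0, 0, 0, 0, 0, 1, 1], [0, 0, 0, -1, 0, 0, 0, 0], [0, 0, 0, 0, 0, 0, -1, -1]], [[0, 0, 0, 0, 0, 1, 0, 0], [1, 1, 1, 2, 1, 1, 1, 0], [0, 0, 0, 0, 0, -1, 0, 0], [-1, -1, -1, -2, -1, -1, -1, 0]], [[0, 0, 0, 0, 0, 0, 1, 0], [0, 1, 1, 1, 1, 0, 0, 0], [0, 0,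 0, 0, 0, 0, -1, 0], [0, -1, -1, -1, -1, 0, 0, 0]], [[0, -1, 0, 0, 0, 0, 0, 0], [0, 1, 1, 2, 2, 2, 2, 1], [0, 1, 0, 0, 0, 0, 0, 0], [0, -1, -1, -2, -2, -2, -2, -1]]]),
   (5, 48, 0x97772e09ca5c4c22e5de345cb9ca9c611611, [1], [[1, 1, 2, 2, 2, 2, 1, 0], [-1, -2, -2, -3, -3, -2, -1, -1], [-2, -2, -3, -4, -3, -2, -1, 0], [1, 1, 1, 1, 1, 0, 0, 0], [1, 2, 2, 4, 3, 3, 2, 1], [0, 0, 1, 1, 1, 0, 0, 0], [0, -1, -1, -2, -2, -1, -1, 0], [-1, 0, -1, -1, -1, -1, -1, -1]], [[0, 0, 0, 0, -1, 1, 0, 0], [1, -1, -1, 0, 1, 1, -1, 0]], [[[0, 0, 0, 0, 0, -1, -1, 0], [-1, -1, -1, -1, -1, 0, 0, 0], [0, 0, 0, -1, 0, 0, 0, 0], [1, 0, 1, 1, 0, 0, 0, 0], [0, 1, 0, 1, 1, 1, 1, 0]], [[-1, 0, 0, 0, 0, 0, 0, -1], [1, 1, 1, 1, 1, 1, 0, 1], [0, -1, 0, 0,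 0, 0, 1, 0], [0, 1, 0, 0, 0, 0, -1, -1], [0, -1, -1, -1, -1, -1, 0, 1]]]),
   (6, 40, 0x8c22e5df58c22e5d6261172b8c22d1, [3, 2], [[2, 2, 3, 4, 3, 2, 1, 1], [-1, -1, -2, -3, -2, -1, -1, 0], [-1, -1, -1, -2, -1, -1, -1, -1], [0, 0, 0, 0, -1, -1, 0, 0], [1, 2, 2, 4, 4, 3, 2, 1], [-1, -2, -2, -3, -3, -2, -2, -1], [1, 1, 1, 1, 1, 1, 1, 0], [0, 0, 1, 1, 1, 1, 1, 1]], [[-1, 0, 0, 0, 1, -1, 0, 1], [-1, 1, 0, 0, -1, 1, 0, 0], [-1, 0, 1, 0, 0, 0, -1, 0], [-1, 0, 0, 1, -1, 0, 0, 0]], [[[0, 0, 0, 0, 0, 0, 0, 1], [0, 0, -1, -1, -1, -1, -1, 0], [0, 0, -1, -1, -1, -1, -1, -1], [0, 0, 0, 0, 0, 0, 0, -1], [0, 0, 1, 1, 1, 1, 1, 0], [0, 0, 1, 1, 1, 1, 1, 1]], [[0, 1, 0, 0, 0, 0, 0, 0], [1, 2, 2, 3, 2, 1, 1, 0], [1, 1, 2, 3, 2, 1, 1, 0], [0,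 -1, 0, 0, 0, 0, 0, 0], [-1, -2, -2, -3, -2, -1, -1, 0], [-1, -1, -2, -3, -2, -1, -1, 0]], [[0, 0, 1, 0, 0, 0, 0, 0], [1, 1, 2, 2, 1, 1, 1, 1], [1, 1, 1, 2, 1, 1, 1, 1], [0, 0, -1, 0, 0, 0, 0, 0], [-1, -1, -2, -2, -1, -1, -1, -1], [-1, -1, -1, -2, -1, -1, -1, -1]], [[0, 0, 0, 1, 0, 0, 0, 0], [0, 0, 0, 1, 1, 1, 0, 0], [0, 0, 0, 0, 1, 1, 0, 0], [0, 0, 0, -1, 0, 0, 0, 0], [0, 0, 0, -1, -1, -1, 0, 0], [0, 0, 0, 0, -1, -1, 0, 0]]]),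
   (7, 6, 0x3dce2, [1], [[1, 0, 1, 1, 0, 0, 0, 0], [0, 1, 0, 1, 0, 0, 0, 0], [0, 0, -1, -1, 0, 0, 0, 0], [0, 0, 1, 1, 1, 1, 0, 0], [0, 0, 0, -1, -1, -1, 0, 0], [0, 0, 0, 1, 1, 1, 1, 1], [0, 0, 0, 0, 0, -1, -1, -1], [0, 0, 0, 0, 0, 1, 1, 0]], [[0, 0, 0, 0, 0, 0, 0, 1]], [[[0, 0, 0, 0, 0, 0, 0, -1], [0, 0, 0, 0, 0, 0, 1, 1], [0, 0, 0, 0, 1, 1, 0, 0], [0, 0, 1, 1, 0, 0, 0, 0], [0, 0, -1, 0, 0, 0, 0, 0], [0, 0, 0, -1, -1, 0, 0, 0], [0, 0, 0, 0, 0, -1, -1, 0]]]),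
   (8, 30, 0x1c4c22e5de5d1845cb02688, [4], [[-1, 0, -1, -1, -1, -1, -1, -1], [-1, -2, -2, -4, -3, -2, -2, -1], [1, 0, 0, 0, 0, 0, 0, 0], [0, 1, 1, 2, 2, 1, 1, 1], [1, 1, 2, 3, 2, 2, 1, 0], [-1, -1, -2, -3, -3, -2, -1, 0], [1, 1, 2, 2, 2, 1, 1, 0], [-1, -1, -2, -2, -1, 0, 0, 0]], [[0, 0, -1, 1, 0, 0, -1, 0], [0, -1, 0, 1, 0, -1, 0, 0]], [[[0, -1, 0, -1, 0, 0, 0, 0], [-1, 0, -1, -1, -1, -1, 0, 0], [0, -1, -1, -1, -1, 0, 0, 0], [-1, -1, -1, -2, -1, -1, -1, 0], [0, 1, 0, 1, 0, 0, 0, 0], [1, 0, 1, 1, 1, 1, 0, 0], [0, 1, 1, 1, 1, 0, 0, 0], [1, 1, 1, 2, 1, 1, 1, 0]], [[0, 0, 0, 0, 1, 1, 0, 0], [1, 2, 2, 3, 2, 1, 1, 1], [1, 1, 2, 3, 2, 2, 1, 0], [0, 0, 0, 0, 1, 0, 0, 0], [0, 0, 0, 0, -1, -1, 0, 0], [-1, -2, -2, -3, -2, -1, -1,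 -1], [-1, -1, -2, -3, -2, -2, -1, 0], [0, 0, 0, 0, -1, 0, 0, 0]]]),
   (9, 14, 0x2e72a611711, [3], [[0, 1, 0, 1, 1, 1, 0, 0], [-1, 0, 0, 0, 0, 0, 0, 0], [0, -1, 0, -1, 0, 0, 0, 0], [1, 1, 1, 2, 1, 1, 1, 0], [-1, -1, -2, -3, -2, -2, -1, 0], [1, 1, 2, 2, 1, 1, 0, 0], [0, 0, 0, 1, 1, 0, 0, 0], [0, 0, 0, 0, 0, 1, 1, 1]], [[0, 0, 0, -1, 1, 0, 0, 0]], [[[0, 0, 1, 1, 0, 0, 0, 0], [-1, 0, -1, -1, -1, 0, 0, 0], [0, 0, -1, -1, -1, -1, -1, 0], [0, -1, -1, -1, 0, 0, 0, 0], [0, -1, 0, -1, -1, -1, 0, 0], [-1, 0, 0, 0, 0, 0, 0, 0], [0, 1, 0, 0, 0, 0, 0, 0], [1, 1, 1, 2, 2, 1, 0, 0], [1, 0, 1, 1, 1, 1, 1, 0]]]),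
   (10, 24, 0x45cbbcb822e5611718, [5, 2], [[0, 0, -1, -1, -1, -1, -1, 0], [0, 1, 1, 2, 1, 1, 1, 1], [1, 1, 2, 2, 2, 2, 2, 1], [0, 0, 0, 0, 0, 0, -1, -1], [-1, -2, -2, -3, -2, -2, -1, 0], [0, 1, 0, 1, 1, 1, 1, 0], [1, 1, 2, 2, 1, 0, 0, 0], [0, -1, -1, -1, -1, 0, 0, 0]], [[0, 0, 0, 0, 0, 0, 1, -1], [0, 1, 1, -1, -1, 1, 0, 0]], [[[0, 0, 0, 0, 0, 0, 0, -1], [-1, -1, -1, -1, -1, 0, 0, 0], [-1, 0, -1, -1, -1, -1, -1, 0], [0, 0, -1, -1, -1, -1, -1, -1], [0, -1, -1, -1, -1, 0, 0, 0], [0, 0, 0, 0, 0, 0, 0, 1], [1, 1, 1, 1, 1, 0, 0, 0], [1, 0, 1, 1, 1, 1, 1, 0], [0, 0, 1, 1, 1, 1, 1, 1], [0, 1, 1, 1, 1, 0, 0, 0]], [[0, 0, 0, -1, 0, 0, 0, 0], [0, -1, 0, -1, -1, -1, -1, -1], [-1, -1, -1, -1, -1, -1, 0, 0], [-1, 0, -1, -1, 0, 0, 0,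 0], [0, 0, 0, 0, 0, 0, -1, -1], [0, 0, 0, 1, 0, 0, 0, 0], [0, 1, 0, 1, 1, 1, 1, 1], [1, 1, 1, 1, 1, 1, 0, 0], [1, 0, 1, 1, 0, 0, 0, 0], [0, 0, 0, 0, 0, 0, 1, 1]]]),
   (12, 20, 0x61172ee9ca8b8c2, [6, 4], [[1, 1, 1, 1, 1, 1, 1, 0], [0, 0, 0, 1, 1, 1, 1, 0], [-1, -2, -2, -3, -2, -1, -1, 0], [1, 2, 2, 3, 2, 1, 0, 0], [-1, -1, -1, -2, -2, -1, 0, 0], [1, 0, 1, 1, 1, 0, 0, 0], [0, 1, 0, 1, 1, 1, 1, 1], [-1, -1, -1, -2, -1, -1, -1, -1]], [[0, 0, 1, -1, 0, 1, 0, 0], [0, 0, 0, 0, 0, 0, -1, 1]], [[[0, 0, 0, 0, 0, 1, 0, 0], [1, 1, 2, 2, 1, 0, 0, 0], [0, 0, 0, 1, 1, 1, 0, 0], [0, 1, 1, 1, 0, 0, 0, 0], [0, 0, 0, 1, 1, 0, 0, 0], [-1, 0, -1, -1, -1, 0, 0, 0], [0, 0, 0, 0, 0, -1, 0, 0], [-1, -1, -2, -2, -1, 0, 0, 0], [0, 0, 0, -1, -1,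 -1, 0, 0], [0, -1, -1, -1, 0, 0, 0, 0], [0, 0, 0, -1, -1, 0, 0, 0], [1, 0, 1, 1, 1, 0, 0, 0]], [[0, 0, 0, 0, 0, 0, -1, 0], [0, 0, 1, 1, 0, 0, 0, 0], [0, 1, 1, 2, 2, 1, 0, 0], [0, 1, 1, 2, 1, 1, 1, 1], [0, 1, 1, 2, 2, 1, 1, 0], [0, 1, 0, 1, 1, 1, 1, 1], [0, 0, 0, 0, 0, 0, 1, 0], [0, 0, -1, -1, 0, 0, 0, 0], [0, -1, -1, -2, -2, -1, 0, 0], [0, -1, -1, -2, -1, -1, -1, -1], [0, -1, -1, -2, -2, -1, -1, 0], [0, -1, 0, -1, -1, -1, -1, -1]]]),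
   (14, 13, 0x5c9ca8b858, [7, 2], [[-1, 0, -1, -1, 0, 0, 0, 0], [0, 0, 0, 0, 0, 0, 1, 0], [1, 1, 2, 3, 2, 2, 1, 0], [0, 0, 0, -1, -1, -1, -1, 0], [0, -1, -1, -1, 0, 0, 0, 0], [0, 1, 0, 1, 0, 0, 0, 0], [0, 0, 1, 1, 1, 0, 0, 0], [0, 0, 0, 0, 0, 1, 1, 1]], [[1, -1, 0, 0, 0, 0, 0, 0]], [[[0, -1, 0, -1, 0, 0, 0, 0], [0, 0, 0, 0, 0, -1, 0, 0], [0, 1, 0, 1, 1, 1, 1, 0], [1, 1, 1, 1, 1, 1, 0, 0], [1, 1, 2, 3, 2, 1, 0, 0], [0, 0, 1, 1, 1, 1, 1, 0], [0, 0, 0, -1, -1, -1, 0, 0], [0, 1, 0, 1, 0, 0, 0, 0], [0, 0, 0, 0, 0, 1, 0, 0], [0, -1, 0, -1, -1, -1, -1, 0], [-1, -1, -1, -1, -1, -1, 0, 0], [-1, -1, -2, -3, -2, -1, 0, 0], [0, 0, -1, -1, -1, -1, -1, 0], [0, 0, 0, 1, 1, 1, 0, 0]]]),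
   (15, 32, 0x8d172ee5cba308b95c611688, [5, 3], [[-1, -1, -2, -3, -3, -2, -1, -1], [0, -1, -1, -2, -2, -2, -1, 0], [0, 0, 0, 1, 1, 1, 1, 1], [0, 0, 0, 0, 0, 0, -1, -1], [1, 2, 3, 4, 3, 2, 2, 1], [-1, -1, -2, -3, -2, -1, -1, 0], [1, 1, 1, 2, 2, 1, 1, 0], [0, -1, 0, -1, -1, 0, 0, 0]], [[1, 0, -1, 1, -1, 1, -1, 1]], [[[0, 0, 0, 1, 0, 0, 0, 0], [1, 1, 2, 2, 1, 0, 0, 0], [0, 1, 0, 1, 1, 0, 0, 0], [0, 0, 0, 0, 0, 0, 0, -1], [0, -1, -1, -1, -1, -1, 0, 0], [0, 0, 0, -1, -1, -1, 0, 0], [0, 0, -1, -1, 0, 0, 0, 0], [0, 0, 0, 0, 0, 1, 1, 0], [1, 0, 1, 1, 1, 1, 1, 1], [0, 1, 1, 1, 1, 1, 1, 1], [0, 0, 0, 0, 1, 1, 0, 0], [-1, -1, -1, -1, -1, 0, 0, 0], [0, -1, 0, -1, -1, -1, -1, 0], [-1, 0, -1, -1, -1, -1, -1, 0], [0, 0, 0, 0, 0, 0, -1,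 -1]]]),
   (18, 11, 0x17772e611, [9, 6], [[0, 0, 1, 1, 1, 1, 0, 0], [0, -1, 0, -1, -1, -1, 0, 0], [-1, 0, -1, -1, -1, -1, 0, 0], [1, 1, 1, 2, 1, 1, 0, 0], [0, 0, 0, 0, 1, 1, 1, 0], [0, 0, 0, 0, 0, 0, 0, 1], [0, 0, 0, -1, -1, -1, -1, -1], [0, 0, 0, 1, 1, 0, 0, 0]], [[-1, 0, 1, 0, -1, 0, 1, -1]], [[[0, 0, 1, 0, 0, 1, 0, 0], [1, 0, 0, 0, 0, 0, 0, -1], [-1, 0, -1, 0, 0, -1, 0, 0], [0, 0, 1, 0, 0, 0, 0, 1], [1, 1, 1, 1, 1, 2, 1, 0], [0, 0, 0, 1, 1, 0, 0, -1], [0, 0, 0, 0, 0, -1, 0, 1], [0, 1, 1, 1, 1, 2, 1, 1], [1, 0, 1, 1, 1, 1, 0, -1], [0, 0, -1, 0, 0, -1, 0, 0], [-1, 0, 0, 0, 0, 0, 0, 1], [1, 0, 1, 0, 0, 1, 0, 0], [0, 0, -1, 0, 0, 0, 0, -1], [-1, -1, -1, -1, -1, -2, -1, 0], [0, 0, 0, -1, -1, 0, 0, 1], [0, 0, 0, 0, 0, 1, 0,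 -1], [0, -1, -1, -1, -1, -2, -1, -1], [-1, 0, -1, -1, -1, -1, 0, 1]]]),
   (20, 14, 0x25ddcba22c8, [10, 4], [[-1, 0, -1, -1, -1, 0, 0, 0], [0, 0, -1, -1, -1, -1, -1, 0], [1, 1, 1, 2, 2, 1, 1, 0], [0, -1, 0, -1, -1, 0, 0, 0], [0, 1, 1, 2, 2, 1, 0, 0], [0, 0, 0, 0, 0, 0, 1, 1], [0, 0, 0, -1, -1, -1, -1, -1], [0, 0, 0, 1, 0, 0, 0, 0]], [[0, 0, 0, 0, 0, 1, -1, 0]], [[[0, 0, 0, 0, 0, 0, -1, 0], [0, 1, 0, 1, 1, 0, 0, 0], [0, 0, 0, -1, 0, 0, 0, 0], [0, 0, 0, 0, 0, 0, 0, -1], [0, -1, 0, -1, -1, -1, 0, 0], [-1, -1, -1, -1, -1, 0, 0, 0], [0, -1, -1, -1, -1, -1, -1, 0], [-1, 0, -1, -1, -1, -1, -1, 0], [0, 0, -1, -1, 0, 0, 0, 0], [0, 0, 0, -1, -1, -1, -1, -1], [0, 0, 0, 0, 0, 0, 1, 0], [0, -1, 0, -1, -1, 0, 0, 0], [0, 0, 0, 1, 0, 0,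 0, 0], [0, 0, 0, 0, 0, 0, 0, 1], [0, 1, 0, 1, 1, 1, 0, 0], [1, 1, 1, 1, 1, 0, 0, 0], [0, 1, 1, 1, 1, 1, 1, 0], [1, 0, 1, 1, 1, 1, 1, 0], [0, 0, 1, 1, 0, 0, 0, 0], [0, 0, 0, 1, 1, 1, 1, 1]]]),
   (24, 10, 0x3795c4c8, [12, 8], [[-1, 0, -1, -1, -1, 0, 0, 0], [0, -1, -1, -2, -2, -1, -1, 0], [1, 0, 1, 1, 1, 1, 1, 0], [0, 1, 0, 1, 1, 0, 0, 0], [0, 0, 1, 0, 0, 0, 0, 0], [0, 0, 0, 1, 0, 0, 0, 0], [0, 0, 0, 0, 1, 1, 1, 1], [0, 0, 0, 0, 0, 0, -1, -1]], [[0, 0, 0, 1, -1, 1, 0, 0]], [[[-1, 0, 0, 1, 0, 0, 0, 0], [0, -1, -1, -1, 0, 1, 0, 0], [0, 0, 0, -1, -1, 0, 1, 1], [1, 1, 1, 1, 1, 0, 0, -1], [0, 0, 1, 1, 0, -1, -1, 0], [-1, 0, -1, 0, 1, 1, 0, 0], [0, -1, -1, -1, -1, 0, 1, 1], [0, 0, 0, -1, -1, 0, 0, -1], [1, 0, 1, 0, 0, -1, -1, 0],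 [-1, 1, 0, 1, 1, 0, 0, 0], [0, -1, -1, 0, 0, 0, 0, 0], [-1, -1, -1, -2, -2, 0, 0, 0], [1, 0, 0, -1, 0, 0, 0, 0], [0, 1, 1, 1, 0, -1, 0, 0], [0, 0, 0, 1, 1, 0, -1, -1], [-1, -1, -1, -1, -1, 0, 0, 1], [0, 0, -1, -1, 0, 1, 1, 0], [1, 0, 1, 0, -1, -1, 0, 0], [0, 1, 1, 1, 1, 0, -1, -1], [0, 0, 0, 1, 1, 0, 0, 1], [-1, 0, -1, 0, 0, 1, 1, 0], [1, -1, 0, -1, -1, 0, 0, 0], [0, 1, 1, 0, 0, 0, 0, 0], [1, 1, 1, 2, 2, 0, 0, 0]]]),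
   (30, 8, 0xbbc458, [15, 10, 6], [[-1, 0, -1, 0, 0, 0, 0, 0], [0, 0, 1, 1, 1, 1, 0, 0], [1, 1, 1, 1, 1, 1, 0, 0], [0, -1, -1, -1, -1, -1, 0, 0], [0, 1, 1, 1, 0, 0, 0, 0], [0, 0, 0, 0, 1, 1, 1, 0], [0, 0, 0, 0, 0, 0, 0, 1], [0, 0, 0, 0, 0, -1, -1, -1]], [[0, 0, 0, 0, -1, 1, 0, 0]], [[[0, 0, 0, 0, 1, 0, 0, 0], [0, 0, 0, 0, 0, 1, 1, 1], [0, 0, 0, 0, 0, 0, 0, -1], [0, 0, 0, 0, 0, 0, -1, 0], [0, 0, 0, -1, -1, -1, 0, 0], [-1, -1, -1, -1, 0, 0, 0, 0], [0, 0, -1, -1, -1, 0, 0, 0], [0, -1, 0, -1, -1, -1, -1, -1], [-1, 0, -1, -1, -1, -1, -1, 0], [0, -1, -1, -2, -1, -1, 0, 0], [-1, -1, -1, -1, -1, 0, 0, 0], [0, 0, -1, -1, -1, -1, -1, -1], [0, -1, 0, -1, -1, -1, -1, 0], [-1, 0, -1, -1, -1, -1, 0, 0], [0, -1, -1, -1, 0, 0, 0, 0], [0,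 0, 0, 0, -1, 0, 0, 0], [0, 0, 0, 0, 0, -1, -1, -1], [0, 0, 0, 0, 0, 0, 0, 1], [0, 0, 0, 0, 0, 0, 1, 0], [0, 0, 0, 1, 1, 1, 0, 0], [1, 1, 1, 1, 0, 0, 0, 0], [0, 0, 1, 1, 1, 0, 0, 0], [0, 1, 0, 1, 1, 1, 1, 1], [1, 0, 1, 1, 1, 1, 1, 0], [0, 1, 1, 2, 1, 1, 0, 0], [1, 1, 1, 1, 1, 0, 0, 0], [0, 0, 1, 1, 1, 1, 1, 1], [0, 1, 0, 1, 1, 1, 1, 0], [1, 0, 1, 1, 1, 1, 0, 0], [0, 1, 1, 1, 0, 0, 0, 0]]])]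

theorem okE8 : (∀ z ∈ sylE8, SylOK Lie.chevE8 fastE8 [2, 8, 12, 14, 18, 20, 24, 30] z) ∧ ∀ e ∈ [2, 8, 12, 14, 18, 20, 24, 30], ∀ d < e + 1, d ∣ e → ∃ z ∈ sylE8, z.1 = d := by
  decide +kernel

/-- Sylow subgroups for primes away from the characteristic and the Weyl group. Let `G` be the Chevalley group of type G₂, B₂, D₄, F₄, E₆, E₇ or E₈ over a field with `q` elements, with the degrees of its Weyl group listed beside the type (their product is the order of the Weyl group), and let `r` be a prime dividing the order of `G`, not dividing `q` and not dividing the order of the Weyl group. Let `d` be the multiplicative order of `q` modulo `r`, `a` the number of degrees divisible by `d`, and `m` the `r`-part of the value at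 `q` of the `d`-th cyclotomic polynomial. Then every Sylow `r`-subgroup of `G` is homocyclic: a direct product of `a` cyclic groups of order `m` (in particular abelian). -/
theorem result {F : Type*} [Field F] [Fintype F] {q : ℕ} (hq : Fintype.card F = q)
    (c : Cfsg.Lie.ChevalleyDatum × List ℕ)
    (hc : c ∈ [(Cfsg.Lie.chevG2, [2, 6]), (Cfsg.Lie.chevB2, [2, 4]), (Cfsg.Lie.chevD4, [2, 4, 4, 6]), (Cfsg.Lie.chevF4, [2, 6, 8, 12]),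
      (Cfsg.Lie.chevE6, [2, 5, 6, 8, 9, 12]), (Cfsg.Lie.chevE7, [2, 6, 8, 10, 12, 14, 18]), (Cfsg.Lie.chevE8, [2, 8, 12, 14, 18, 20, 24, 30])])
    (r : ℕ) [Fact r.Prime] (hrq : ¬ r ∣ q) (hrW : ¬ r ∣ c.2.prod) (hrG : r ∣ Nat.card ↥(c.1.group F)) (P : Sylow r ↥(c.1.group F)) :
    Nonempty (↥(P : Subgroup ↥(c.1.group F)) ≃*
      (Fin (c.2.filter (fun e => orderOf (q : ZMod r) ∣ e)).length →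
        Multiplicative (ZMod (r ^ padicValNat r ((Polynomial.cyclotomic (orderOf (q : ZMod r)) ℤ).eval (q : ℤ)).natAbs)))) := by
  have h := card_group (F := F) hc
  simp only [List.mem_cons, List.not_mem_nil, or_false] at hc
  rcases hc with rfl | rfl | rfl | rfl | rfl | rfl | rfl
  · exact (scov_refl unimodG2).sylow (agree_of_check smallG2 chainG2 ltG2) _ okG2 (by decide) 1 [[2, 1], [3, 2]] (by decide +kernel) h hq r hrq hrW hrG P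
  · exact scovB2.sylow (agree_of_check smallB2 chainB2 ltB2) _ okB2 (by decide) 2 [[2, 1], [2, 2]] (by decide +kernel) h hq r hrq hrW hrG P
  · exact scovD4.sylow (agree_of_check smallD4 chainD4 ltD4) _ okD4 (by decide) 2 [[2, 2, 1, 1], [2, 4, 2, 2], [1, 2, 2, 1], [1, 2, 1, 2]] (by decide +kernel) h hq r hrq hrW hrG P
  · exact (scov_refl unimodF4).sylow (agree_of_check smallF4 chainF4 ltF4) _ okF4 (by decide) 1 [[2, 3, 2, 1], [3, 6, 4, 2], [4, 8, 6, 3], [2, 4, 3, 2]] (by decide +kernel) h hq r hrq hrW hrG P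
  · exact scovE6.sylow (agree_of_check smallE6 chainE6 ltE6) _ okE6 (by decide) 3 [[4, 3, 5, 6, 4, 2], [3, 6, 6, 9, 6, 3], [5, 6, 10, 12, 8, 4], [6, 9, 12, 18, 12, 6], [4, 6, 8, 12, 10, 5], [2, 3, 4, 6, 5, 4]] (by decide +kernel) h hq r hrq hrW hrG P
  · exact scovE7.sylow (agree_of_check smallE7 chainE7 ltE7) _ okE7 (by decide) 2 [[4, 4, 6, 8, 6, 4, 2], [4, 7, 8, 12, 9, 6, 3], [6, 8, 12, 16, 12, 8, 4], [8, 12, 16, 24, 18, 12, 6], [6, 9, 12, 18, 15, 10, 5], [4, 6, 8, 12, 10, 8, 4], [2, 3, 4, 6, 5, 4, 3]] (by decide +kernel) h hq r hrq hrW hrG P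
  · exact (scov_refl unimodE8).sylow (agree_of_check smallE8 chainE8 ltE8) _ okE8 (by decide) 1 [[4, 5, 7, 10, 8, 6, 4, 2], [5, 8, 10, 15, 12, 9, 6, 3], [7, 10, 14, 20, 16, 12, 8, 4], [10, 15, 20, 30, 24, 18, 12, 6], [8, 12, 16, 24, 20, 15, 10, 5], [6, 9, 12, 18, 15, 12, 8, 4], [4, 6, 8, 12, 10, 8, 6, 3], [2, 3, 4, 6, 5, 4, 3, 2]] (by decide +kernel) h hq r hrq hrW hrG P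

end Cfsg.Agent.S2378
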