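import Cfsg.Statements.S2451
import Cfsg.Agent.H9.AH7
import Cfsg.Agent.H4.PT

set_option autoImplicit false
open Cfsg

namespace Cfsg.Agent.S2451

/-- Let G be a finite simple group of Lie type in characteristic p and let a, b, c be non-identity elements of G such that the set of products of a conjugate of a with a conjugate of b is exactly the conjugacy class of c. Then c is neither semisimple (of order prime to p) nor unipotent (of p-power order), a and b are not both semisimple, and a and b are not both unipotent. -/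
theorem result {G : Type*} [Group G] [Finite G] (p : ℕ) [Fact p.Prime] (hG : Cfsg.IsLieTypeChar p G) (a b c : G)
    (ha : a ≠ 1) (hb : b ≠ 1) (hc : c ≠ 1)
    (h : {g : G | ∃ u v : G, g = (u * a * u⁻¹) * (v * b * v⁻¹)} = {g : G | IsConj c g}) :
    p ∣ orderOf c ∧ (¬ ∃ k : ℕ, orderOf c = p ^ k) ∧ (p ∣ orderOf a ∨ p ∣ orderOf b) ∧
      ((¬ ∃ k : ℕ, orderOf a = p ^ k) ∨ (¬ ∃ k : ℕ, orderOf b = p ^ k)) := by
  refine (H9.AH.good_lie p (fun F _ _ h1 hq => ?_) hG).final a b c ha hb hc h
  have h2 := H6.AY.char_two hq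
  obtain rfl : p = 2 := CharP.eq F h1 h2
  have := H8.finite_group (D := Lie.chevE7) (K := F)
  refine H6.AY.good_E7_two_of hq (H4.PT.hpl_E7 (fun t => ?_) (H6.AY.sit_un (H6.AY.sq_eq hq) H8.tablesE7 H6.AY.sE7))
  exact (mul_eq_zero.1 (show t * (t - 1) = 0 by linear_combination H6.AY.sq_eq hq t)).imp_right sub_eq_zero.1

end Cfsg.Agent.S2451
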