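import Cfsg.Statements.S2468
import Cfsg.Agent.H4.LSpec2

set_option autoImplicit false
open Cfsg

namespace Cfsg.Agent.S2468

open Cfsg.Agent.H5 Cfsg.Agent.H4 Function

/-- Adjacency of two odd primes in the prime graph of PSL(n,q): let F be a finite field of characteristic p with q elements, n ≥ 2 with PSL(n,F) simple, and let r ≠ s be odd primes different from p dividing the order of PSL(n,F). Let k and l be the multiplicative orders of q modulo r and modulo s, and suppose 2 ≤ k ≤ l. Then PSL(n,F) has NO element of order r·s if and only if k + l > n and k does not divide l. -/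
theorem result {F : Type*} [Field F] [Fintype F] (p : ℕ) [Fact p.Prime] [CharP F p] (n : ℕ) (hn : 2 ≤ n) (hsmall : n = 2 → 4 ≤ Fintype.card F)
    (r s : ℕ) (hr : r.Prime) (hs : s.Prime) (hr2 : r ≠ 2) (hs2 : s ≠ 2) (hrp : r ≠ p) (hsp : s ≠ p) (hrs : r ≠ s)
    (hrG : r ∣ Nat.card (Matrix.ProjectiveSpecialLinearGroup (Fin n) F)) (hsG : s ∣ Nat.card (Matrix.ProjectiveSpecialLinearGroup (Fin n) F))
    (k l : ℕ) (hk : k = orderOf ((Fintype.card F : ℕ) : ZMod r)) (hl : l = orderOf ((Fintype.card F : ℕ) : ZMod s))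
    (h2k : 2 ≤ k) (hkl : k ≤ l) :
    (r * s ∉ Set.range (orderOf : Matrix.ProjectiveSpecialLinearGroup (Fin n) F → ℕ)) ↔ (n < k + l ∧ ¬ k ∣ l) := by
  classical
  obtain ⟨K, _, _, _⟩ := exists_algClosed F
  have hp : p.Prime := Fact.out
  have : CharP K p := charP_ext K p F
  have hτ := tauL_injective (F := F) K
  have hq0 : 0 < Fintype.card F := Fintype.card_pos
  have hpq : p ∣ Fintype.card F := char_dvd_card p
  have hln : l ≤ n := hl ▸ orderOf_le_of_dvd_card_PSL hs (not_dvd_card_of_ne p hs hsp) hsG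
  have hr' : ∀ m, r ∣ Fintype.card F ^ m - 1 ↔ k ∣ m := fun m => by
    rw [hk, orderOf_cast_dvd_iff hq0]
  have hs' : ∀ m, s ∣ Fintype.card F ^ m - 1 ↔ l ∣ m := fun m => by
    rw [hl, orderOf_cast_dvd_iff hq0]
  have hcr : Nat.Coprime r (Fintype.card F - 1) := hr.coprime_iff_not_dvd.2 fun h => by
    have := Nat.dvd_one.1 ((hr' 1).1 (by simpa using h)); omega
  have hcs : Nat.Coprime s (Fintype.card F - 1) := hs.coprime_iff_not_dvd.2 fun h => by
    have := Nat.dvd_one.1 ((hs' 1).1 (by simpa using h)); omega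
  have hcop : Nat.Coprime r s := (Nat.coprime_primes hr hs).2 hrs
  have hpr : ¬ p ∣ r := fun h => hrp ((Nat.prime_dvd_prime_iff_eq hp hr).1 h).symm
  have hps : ¬ p ∣ s := fun h => hsp ((Nat.prime_dvd_prime_iff_eq hp hs).1 h).symm
  constructor
  · intro hno
    by_contra hh
    apply hno
    rw [not_and_or, not_lt, not_not] at hh
    rcases hh with hh | hh
    · obtain ⟨a, ha⟩ := exists_prim_root K p hpr
      obtain ⟨b, hb⟩ := exists_prim_root K p hps
      obtain ⟨a1, a2, a3⟩ := orb_prim hq0 ha hr.ne_zero hcr ((hr' k).2 dvd_rfl) h2k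
      obtain ⟨b1, b2, b3⟩ := orb_prim hq0 hb hs.ne_zero hcs ((hs' l).2 dvd_rfl) (h2k.trans hkl)
      refine psl_exists (F := F) (ι := Fin n) K p (M := orb (tauL (Fintype.card F)) a k +
        orb (tauL (Fintype.card F)) b l + Multiset.replicate (n - (k + l)) 1)
        (by simp [a1, b1, tauL_one]) (by simp [a2, b2]) (by simp; omega) fun i hi => ?_
      refine hcop.mul_dvd_of_dvd_of_dvd (a3 i fun x hx y hy => hi.1 x ?_ y ?_)
        (b3 i fun x hx y hy => hi.1 x ?_ y ?_) <;> simp [hx, hy]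
    · obtain ⟨a, ha⟩ := exists_prim_root K p (m := r * s) fun h => (hp.dvd_mul.1 h).elim hpr hps
      obtain ⟨a1, a2, a3⟩ := orb_prim hq0 ha (Nat.mul_ne_zero hr.ne_zero hs.ne_zero)
        (Nat.Coprime.mul_left hcr hcs)
        (hcop.mul_dvd_of_dvd_of_dvd ((hr' l).2 hh) ((hs' l).2 dvd_rfl)) (h2k.trans hkl)
      refine psl_exists (F := F) (ι := Fin n) K p (M := orb (tauL (Fintype.card F)) a l +
        Multiset.replicate (n - l) 1)
        (by simp [a1, tauL_one]) (by simp [a2]) (by simp; omega) fun i hi => ?_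
      refine a3 i fun x hx y hy => hi.1 x ?_ y ?_ <;> simp [hx, hy]
  · rintro ⟨h1, h2⟩ ⟨g, hg⟩
    obtain ⟨M, hM, hM1, hMc, hMd, hMe⟩ := psl_ev K p g
    rw [Fintype.card_fin] at hMc
    have h0 := ne_zero_of_prod_eq_one hM1
    obtain ⟨x, hx, hx'⟩ := exists_dvd_period hq0 h0 hMd hr hrp (hg ▸ dvd_mul_right _ _)
    obtain ⟨y, hy, hy'⟩ := exists_dvd_period hq0 h0 hMd hs hsp (hg ▸ dvd_mul_left _ _)
    rw [hr'] at hx'
    rw [hs'] at hy'
    have hpx := minimalPeriod_pos_of_mem_periodicPts (periodic_of_stable hτ hM hx)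
    have hpy := minimalPeriod_pos_of_mem_periodicPts (periodic_of_stable hτ hM hy)
    have hx1 := Multiset.count_pos.2 hx
    have hy1 := Multiset.count_pos.2 hy
    by_cases hxy : ∀ k, (tauL (Fintype.card F))^[k] x ≠ y
    · have := count_mul_period_add_le hτ hM hx hxy
      have := Nat.le_of_dvd hpx hx'
      have := Nat.le_of_dvd hpy hy'
      nlinarith
    · push Not at hxy
      obtain ⟨j, rfl⟩ := hxy
      rw [minimalPeriod_iterate_eq (periodic_of_stable hτ hM hx)] at hy'
      have h3 := count_mul_period_le hτ hM x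
      obtain ⟨c, hc⟩ := hy'
      rw [hc] at hx' h3 hpx
      have h4 : c ≠ 0 := by rintro rfl; simp at hpx
      have h5 : c ≠ 1 := by rintro rfl; exact h2 (by simpa using hx')
      have h6 : 2 ≤ c := by omega
      have h7 : l * c ≤ n := hMc ▸ (Nat.le_mul_of_pos_left _ hx1).trans h3
      nlinarith

end Cfsg.Agent.S2468
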