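import Cfsg.Statements.S2469
import Cfsg.Agent.H5.Eta

set_option autoImplicit false
open Cfsg

namespace Cfsg.Agent.S2469

open Cfsg.Agent.H5 Function


/-- Adjacency of two odd primes in the prime graph of PSp(2n,q): let F be a finite field of characteristic p with q elements, n ≥ 2 with PSp(2n,F) simple, and let r ≠ s be odd primes different from p dividing the order of PSp(2n,F). Let k, l be the multiplicative orders of q modulo r and s, put η(m) = m for odd m and η(m) = m/2 for even m, and suppose η(k) ≤ η(l). Then PSp(2n,F) has NO element of order r·s if and only if η(k) + η(l) > n and l/k is not an odd integer. -/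
theorem result {F : Type*} [Field F] [Fintype F] (p : ℕ) [Fact p.Prime] [CharP F p] (n : ℕ) (hn : 2 ≤ n) (hsmall : n = 2 → 3 ≤ Fintype.card F)
    (r s : ℕ) (hr : r.Prime) (hs : s.Prime) (hr2 : r ≠ 2) (hs2 : s ≠ 2) (hrp : r ≠ p) (hsp : s ≠ p) (hrs : r ≠ s)
    (hrG : r ∣ Nat.card (Cfsg.PSp n F)) (hsG : s ∣ Nat.card (Cfsg.PSp n F))
    (k l ηk ηl : ℕ) (hk : k = orderOf ((Fintype.card F : ℕ) : ZMod r)) (hl : l = orderOf ((Fintype.card F : ℕ) : ZMod s))
    (hηk : (Odd k ∧ ηk = k) ∨ (Even k ∧ 2 * ηk = k)) (hηl : (Odd l ∧ ηl = l) ∨ (Even l ∧ 2 * ηl = l)) (hkl : ηk ≤ ηl) :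
    (r * s ∉ Set.range (orderOf : Cfsg.PSp n F → ℕ)) ↔ (n < ηk + ηl ∧ ¬ ∃ t : ℕ, Odd t ∧ l = k * t) := by
  classical
  obtain ⟨K, _, _, _⟩ := exists_algClosed F
  have : CharP K p := charP_ext K p F
  have hp : p.Prime := Fact.out
  have := Fact.mk hr
  have := Fact.mk hs
  subst hk hl
  have hk0 := orderOf_card_pos (F := F) p hr hrp
  have hl0 := orderOf_card_pos (F := F) p hs hsp
  have hln := eta_le_of_dvd_card p hs hsp hsG hηl
  set q := Fintype.card F with hq
  have hη : IsEta (orderOf (q : ZMod r)) ηk := hηk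
  have hη' : IsEta (orderOf (q : ZMod s)) ηl := hηl
  have hφ : Injective (phi q : K → K) := phi_injective F
  have hro : r.Coprime 2 := (Nat.coprime_primes hr Nat.prime_two).2 hr2
  have hso : s.Coprime 2 := (Nat.coprime_primes hs Nat.prime_two).2 hs2
  have hrp' : r.Coprime p := (Nat.coprime_primes hr hp).2 hrp
  have hsp' : s.Coprime p := (Nat.coprime_primes hs hp).2 hsp
  have hrs' : r.Coprime s := (Nat.coprime_primes hr hs).2 hrs
  have hne : ∀ {r : ℕ} [Fact r.Prime], r ≠ 2 → (1 : ZMod r) ≠ -1 := fun {r} hr hr2 => by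
    have : Fact (2 < r) := ⟨lt_of_le_of_ne hr.out.two_le (Ne.symm hr2)⟩
    exact ZMod.neg_one_ne_one.symm
  constructor
  · intro hno
    obtain ⟨l, hl⟩ := exists_prim_root K p (m := r)
      fun h => hrp ((Nat.prime_dvd_prime_iff_eq hp hr).1 h).symm
    obtain ⟨μ, hμ⟩ := exists_prim_root K p (m := s)
      fun h => hsp ((Nat.prime_dvd_prime_iff_eq hp hs).1 h).symm
    have hl0' := hl.ne_zero hr.ne_zero
    have hμ0 := hμ.ne_zero hs.ne_zero
    have key : ∀ M : Multiset K, M.map (phi q) = M → M.map (·⁻¹) = M → M.prod = 1 → M.card = 2 * n →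
        (∀ i, (∀ x ∈ M, x ^ (2 * i) = 1) → r * s ∣ 2 * i) → False := by
      intro M h1 h2 h3 h4 h5
      refine hno (psp_exists K p h1 h2 h3 h4 fun i hi _ => ?_)
      exact (hro.mul_left hso).dvd_of_dvd_mul_left (h5 i (pow_two_mul_eq_one h2
        (fun hx => by simp [Multiset.prod_eq_zero hx] at h3) hi))
    refine ⟨?_, ?_⟩
    · by_contra hle
      refine key (sorb q l ηk + sorb q μ ηl + Multiset.replicate (2 * (n - ηk - ηl)) 1) ?_ ?_ ?_ ?_ ?_
      · rw [Multiset.map_add, Multiset.map_add, sorb_stable, sorb_stable]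
        · simp [phi]
        · rw [prim_pow_eq_iff hμ hs.ne_zero, prim_pow_eq_inv_iff hμ hs.ne_zero, Nat.cast_pow]
          exact (hη'.pow_eq hl0).imp And.right And.right
        · rw [prim_pow_eq_iff hl hr.ne_zero, prim_pow_eq_inv_iff hl hr.ne_zero, Nat.cast_pow]
          exact (hη.pow_eq hk0).imp And.right And.right
      · rw [Multiset.map_add, Multiset.map_add, sorb_inv, sorb_inv]; simp
      · rw [Multiset.prod_add, Multiset.prod_add, sorb_prod _ hl0', sorb_prod _ hμ0]; simp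
      · simp; omega
      · intro i h1
        apply hrs'.mul_dvd_of_dvd_of_dvd
        · rw [← hl.pow_eq_one_iff_dvd]
          exact h1 l (by simp [self_mem_sorb _ _ (hη.pos hk0)])
        · rw [← hμ.pow_eq_one_iff_dvd]
          exact h1 μ (by simp [self_mem_sorb _ _ (hη'.pos hl0)])
    · rintro ⟨t, ht, hlt⟩
      have hx : IsPrimitiveRoot (l * μ) (r * s) := by
        rw [IsPrimitiveRoot.iff_orderOf, (Commute.all l μ).orderOf_mul_eq_mul_orderOf_of_coprime,
          ← hl.eq_orderOf, ← hμ.eq_orderOf]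
        rwa [← hl.eq_orderOf, ← hμ.eq_orderOf]
      refine key (sorb q (l * μ) ηl + Multiset.replicate (2 * (n - ηl)) 1) ?_ ?_ ?_ ?_ ?_
      · rw [Multiset.map_add, sorb_stable]
        · simp [phi]
        rw [mul_pow, mul_inv]
        rcases hη'.pow_eq hl0 with ⟨h1, h2⟩ | ⟨h1, h2⟩
        · left
          rw [(prim_pow_eq_iff hμ hs.ne_zero _).2 (by rw [Nat.cast_pow, h2]),
            (prim_pow_eq_iff hl hr.ne_zero _).2]
          rcases hη' with ⟨-, h3⟩ | ⟨h3, -⟩
          · rw [Nat.cast_pow, h3, hlt, pow_mul, pow_orderOf_eq_one, one_pow]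
          · exact absurd h1 (Nat.not_odd_iff_even.2 h3)
        · right
          rw [(prim_pow_eq_inv_iff hμ hs.ne_zero _).2 (by rw [Nat.cast_pow, h2]),
            (prim_pow_eq_inv_iff hl hr.ne_zero _).2]
          have h4 : Even (orderOf (q : ZMod r)) := by
            rw [hlt, Nat.even_mul] at h1
            exact h1.resolve_right (Nat.not_even_iff_odd.2 ht)
          have h5 : ηl = ηk * t := by
            rcases hη' with ⟨h3, -⟩ | ⟨-, h3⟩
            · exact absurd h3 (Nat.not_odd_iff_even.2 h1)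
            rcases hη with ⟨h6, -⟩ | ⟨-, h6⟩
            · exact absurd h6 (Nat.not_odd_iff_even.2 h4)
            rw [hlt, ← h6, mul_assoc] at h3
            omega
          rcases hη.pow_eq hk0 with ⟨h6, -⟩ | ⟨-, h6⟩
          · exact absurd h6 (Nat.not_odd_iff_even.2 h4)
          rw [Nat.cast_pow, h5, pow_mul, h6, ht.neg_one_pow]
      · rw [Multiset.map_add, sorb_inv]; simp
      · rw [Multiset.prod_add, sorb_prod _ (mul_ne_zero hl0' hμ0)]; simp
      · simp; omega
      · intro i h1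
        rw [← hx.pow_eq_one_iff_dvd]
        exact h1 _ (by simp [self_mem_sorb _ _ (hη'.pos hl0)])
  · rintro ⟨hlt, hno⟩ ⟨g, hg⟩
    apply hno
    obtain ⟨M, hM, hMi, hM1, hMc, hMd, hMe⟩ := psp_ev K p g
    rw [hg] at hMd hMe
    have h0 : (0 : K) ∉ M := fun hx => by simp [Multiset.prod_eq_zero hx] at hM1
    have hM2 := pow_two_mul_eq_one hMi h0 hMe
    have hex : ∀ a b : ℕ, a * b = r * s → b.Prime → b.Coprime 2 → b.Coprime a → b.Coprime p →
        ∃ x ∈ M, x ^ (2 * a) ≠ 1 := by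
      intro a b hab hb h1 h2 h3
      by_contra hh
      push Not at hh
      have := (Dvd.intro_left _ hab).trans
        (hMd _ (div_clog hp.one_lt (j := 2 * a) fun x hx y hy => by rw [hh x hx, hh y hy]))
      exact hb.one_lt.ne' (Nat.Coprime.eq_one_of_dvd ((h1.mul_right h2).mul_right (h3.pow_right _)) this)
    have hsorb : ∀ x ∈ M, ∀ a, x ^ (2 * a) ≠ 1 → ∃ d, 0 < d ∧ (x ^ q ^ d = x ∨ x ^ q ^ d = x⁻¹) ∧
        (sorb q x d).Nodup ∧ (∀ y, y ∈ sorb q x d ↔ SRel q x y) := by
      intro x hx a ha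
      have hx0 : x ≠ 0 := fun h => h0 (h ▸ hx)
      obtain ⟨d, hd0, hd1, hd2, hd3, -⟩ := exists_sorb hφ (periodic_of_stable hφ hM hx)
        (fun h => ha (by
          rw [pow_mul, sq]; nth_rewrite 1 [← h]; rw [inv_mul_cancel₀ hx0, one_pow]))
      exact ⟨d, hd0, hd1, hd2, hd3⟩
    obtain ⟨x, hx, hx2⟩ := hex r s rfl hs hso hrs'.symm hsp'
    obtain ⟨y, hy, hy2⟩ := hex s r (mul_comm _ _) hr hro hrs' hrp'
    obtain ⟨d, hd0, hd1, hd2, hd3⟩ := hsorb x hx r hx2
    obtain ⟨e, he0, he1, he2, he3⟩ := hsorb y hy s hy2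
    have hpx : IsPrimitiveRoot (x ^ (2 * r)) s :=
      isPrimitiveRoot_of_prime hs (by rw [← pow_mul, mul_assoc]; exact hM2 x hx) hx2
    have hpy : ∀ y ∈ M, y ^ (2 * s) ≠ 1 → IsPrimitiveRoot (y ^ (2 * s)) r := fun y hy hy2 =>
      isPrimitiveRoot_of_prime hr (by rw [← pow_mul, mul_assoc, mul_comm s]; exact hM2 y hy) hy2
    have hld := hη'.dvd_of_pow hs.ne_zero hpx (pow_pow_eq_or hd1 _)
    have hke := hη.dvd_of_pow hr.ne_zero (hpy y hy hy2) (pow_pow_eq_or he1 _)
    obtain ⟨N, hN, hN1, hN2, hN3⟩ := exists_ssplit hφ hM hMi hx hd2 hd3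
    have hcard : M.count x * (2 * d) + N.card = 2 * n := by
      have := congrArg Multiset.card hN
      simpa [hMc] using this.symm
    have hc : 2 * d ≤ M.count x * (2 * d) := Nat.le_mul_of_pos_left _ (Multiset.count_pos.2 hx)
    have hld' := Nat.le_of_dvd hd0 hld
    have hxy : SRel q x y := by
      by_contra hxy
      have hyN : y ∈ N := (Multiset.mem_add.1 (hN ▸ hy)).resolve_left
        fun h => hxy ((hd3 y).1 (Multiset.mem_of_mem_nsmul h))
      obtain ⟨N', hN', -⟩ := exists_ssplit hφ hN1 hN2 hyN he2 he3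
      have hcard' : N.count y * (2 * e) + N'.card = N.card := by
        have := congrArg Multiset.card hN'
        simpa using this.symm
      have hc' : 2 * e ≤ N.count y * (2 * e) := Nat.le_mul_of_pos_left _ (Multiset.count_pos.2 hyN)
      have := Nat.le_of_dvd he0 hke
      omega
    have hpx' := hpy x hx fun h => hy2 (hxy.pow_eq_one h)
    have hdl : d = ηl := by
      obtain ⟨c, hc⟩ := hld
      rcases c with _ | _ | c
      · omega
      · omega
      · exfalso; nlinarith
    subst hdl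
    rcases hd1 with h1 | h1
    · have a1 := (prim_pow_eq_iff hpx hs.ne_zero (q ^ d)).1 (by rw [← pow_mul, mul_comm, pow_mul, h1])
      have a2 := (prim_pow_eq_iff hpx' hr.ne_zero (q ^ d)).1 (by rw [← pow_mul, mul_comm, pow_mul, h1])
      rw [Nat.cast_pow] at a1 a2
      rcases hη' with ⟨h3, h4⟩ | ⟨-, h4⟩
      · obtain ⟨t, ht⟩ := orderOf_dvd_of_pow_eq_one a2
        refine ⟨t, ?_, h4 ▸ ht⟩
        rw [← h4, ht, Nat.odd_mul] at h3
        exact h3.2
      · have := Nat.le_of_dvd hd0 (orderOf_dvd_of_pow_eq_one a1)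
        omega
    · have a1 := (prim_pow_eq_inv_iff hpx hs.ne_zero (q ^ d)).1
        (by rw [← pow_mul, mul_comm, pow_mul, h1, inv_pow])
      have a2 := (prim_pow_eq_inv_iff hpx' hr.ne_zero (q ^ d)).1
        (by rw [← pow_mul, mul_comm, pow_mul, h1, inv_pow])
      rw [Nat.cast_pow] at a1 a2
      rcases hη' with ⟨h3, h4⟩ | ⟨-, h4⟩
      · rw [h4, pow_orderOf_eq_one] at a1
        exact absurd a1 (hne hs2)
      · obtain ⟨t, ht⟩ := orderOf_dvd_two_mul (Or.inr a2)
        refine ⟨t, ?_, h4 ▸ ht⟩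
        by_contra hte
        obtain ⟨u, rfl⟩ := Nat.not_odd_iff_even.1 hte
        have : d = orderOf (q : ZMod r) * u := by rw [mul_add] at ht; omega
        rw [this, pow_mul, pow_orderOf_eq_one, one_pow] at a2
        exact hne hr2 a2

end Cfsg.Agent.S2469
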