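import Cfsg.Statements.S2470
import Cfsg.Agent.H4.LSpec2

set_option autoImplicit false
open Cfsg

namespace Cfsg.Agent.S2470

open Cfsg.Agent.H5 Cfsg.Agent.H4 Function

/-- Adjacency of an odd prime and the characteristic in the prime graph of PSL(n,q): let F be a finite field of characteristic p with q elements, n ≥ 2 with PSL(n,F) simple, and let r ≠ p be an odd prime dividing the order of PSL(n,F), with k the multiplicative order of q modulo r. Then PSL(n,F) has NO element of order r·p if and only if either k > n − 2, or n = 3, r = 3 and 3 divides q − 1 exactly once. -/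
theorem result {F : Type*} [Field F] [Fintype F] (p : ℕ) [Fact p.Prime] [CharP F p] (n : ℕ) (hn : 2 ≤ n) (hsmall : n = 2 → 4 ≤ Fintype.card F)
    (r : ℕ) (hr : r.Prime) (hr2 : r ≠ 2) (hrp : r ≠ p) (hrG : r ∣ Nat.card (Matrix.ProjectiveSpecialLinearGroup (Fin n) F))
    (k : ℕ) (hk : k = orderOf ((Fintype.card F : ℕ) : ZMod r)) :
    (r * p ∉ Set.range (orderOf : Matrix.ProjectiveSpecialLinearGroup (Fin n) F → ℕ)) ↔
      (n - 2 < k ∨ (n = 3 ∧ r = 3 ∧ 3 ∣ Fintype.card F - 1 ∧ ¬ 9 ∣ Fintype.card F - 1)) := by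
  classical
  obtain ⟨K, _, _, _⟩ := exists_algClosed F
  have hp : p.Prime := Fact.out
  have : CharP K p := charP_ext K p F
  have hτ := tauL_injective (F := F) K
  have hq0 : 0 < Fintype.card F := Fintype.card_pos
  have hpq : p ∣ Fintype.card F := char_dvd_card p
  have hk0 : 0 < k := hk ▸ orderOf_cast_pos hr (not_dvd_card_of_ne p hr hrp)
  have hr' : ∀ m, r ∣ Fintype.card F ^ m - 1 ↔ k ∣ m := fun m => by
    rw [hk, orderOf_cast_dvd_iff hq0]
  have hcop : Nat.Coprime r p := (Nat.coprime_primes hr hp).2 hrp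
  have hpr : ¬ p ∣ r := fun h => hrp ((Nat.prime_dvd_prime_iff_eq hp hr).1 h).symm
  have hp1 : ¬ p ∣ Fintype.card F - 1 := by simpa using not_dvd_pow_sub_one hp hpq hq0 one_pos
  have htwo : ∀ (M : Multiset K) (i : ℕ) (x : K), Div p M i → 2 ≤ M.count x → p ∣ i :=
    fun M i x hi hx => by simpa using hi.2 x 0 (by rw [pow_zero]; omega)
  constructor
  · intro hno
    by_contra hh
    apply hno
    rw [not_or, not_lt] at hh
    obtain ⟨h1, h2⟩ := hh
    rcases Nat.lt_or_ge 1 k with h2k | h2k
    · have hcr : Nat.Coprime r (Fintype.card F - 1) := hr.coprime_iff_not_dvd.2 fun h => by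
        have := Nat.dvd_one.1 ((hr' 1).1 (by simpa using h)); omega
      obtain ⟨a, ha⟩ := exists_prim_root K p hpr
      obtain ⟨a1, a2, a3⟩ := orb_prim hq0 ha hr.ne_zero hcr ((hr' k).2 dvd_rfl) h2k
      refine psl_exists (F := F) (ι := Fin n) K p (M := orb (tauL (Fintype.card F)) a k +
        Multiset.replicate (n - k) 1)
        (by simp [a1, tauL_one]) (by simp [a2]) (by simp; omega) fun i hi => ?_
      refine hcop.mul_dvd_of_dvd_of_dvd (a3 i fun x hx y hy => hi.1 x ?_ y ?_) (htwo _ i 1 hi ?_)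
      · simp [hx]
      · simp [hy]
      · simp; omega
    · have hrq : r ∣ Fintype.card F - 1 := by simpa using (hr' 1).2 (by simp; omega)
      rcases Nat.lt_or_ge 3 n with h3 | h3
      · obtain ⟨a, ha⟩ := exists_prim_root K p hpr
        have ha0 := ha.ne_zero hr.ne_zero
        have ha1 := (tauL_eq_iff hq0 ha0).2 ((ha.pow_eq_one_iff_dvd _).2 hrq)
        refine psl_exists (F := F) (ι := Fin n) K p (M := {a, a⁻¹} + Multiset.replicate (n - 2) 1)
          (by simp [ha1, tauL_one, tauL_inv]) (by simp [ha0]) (by simp; omega) fun i hi => ?_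
        refine hcop.mul_dvd_of_dvd_of_dvd ?_ (htwo _ i 1 hi ?_)
        · rw [← ha.pow_eq_one_iff_dvd, hi.1 a (by simp) 1
            (by simp [Multiset.mem_replicate]; omega), one_pow]
        · rw [Multiset.count_add, Multiset.count_replicate_self]; omega
      · obtain rfl : n = 3 := by omega
        obtain ⟨m, hm1, hm2⟩ : ∃ m, m ∣ Fintype.card F - 1 ∧ ∀ i, m ∣ 3 * i → r ∣ i := by
          by_cases h3 : r = 3
          · subst h3
            refine ⟨9, ?_, fun i hi => by omega⟩
            by_contra h9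
            exact h2 ⟨rfl, rfl, hrq, h9⟩
          · exact ⟨r, hrq, fun i hi => (hr.dvd_mul.1 hi).resolve_left fun h =>
              h3 ((Nat.prime_dvd_prime_iff_eq hr Nat.prime_three).1 h)⟩
        obtain ⟨a, ha⟩ := exists_prim_root K p (m := m) fun h => hp1 (h.trans hm1)
        have ha0 := ha.ne_zero (by rintro rfl; exact hp1 (by rw [zero_dvd_iff.1 hm1]; simp))
        have ha1 := (tauL_eq_iff hq0 ha0).2 ((ha.pow_eq_one_iff_dvd _).2 hm1)
        refine psl_exists (F := F) (ι := Fin 3) K p (M := (a ^ 2)⁻¹ ::ₘ Multiset.replicate 2 a)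
          (by simp [ha1, tauL_pow, tauL_inv]) (by simp; field_simp) (by simp) fun i hi => ?_
        refine hcop.mul_dvd_of_dvd_of_dvd (hm2 i ?_) (htwo _ i a hi ?_)
        · have := hi.1 a (by simp) (a ^ 2)⁻¹ (by simp)
          rw [← ha.pow_eq_one_iff_dvd, pow_mul, pow_succ a 2, mul_pow, this, inv_pow,
            mul_inv_cancel₀ (by positivity)]
        · rw [Multiset.count_cons, Multiset.count_replicate_self]; omega
  · rintro h1 ⟨g, hg⟩
    have h2 := orderOf_add_two_le p hr hrp g (hg ▸ dvd_mul_right _ _) (hg ▸ dvd_mul_left _ _)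
    rw [← hk] at h2
    obtain ⟨rfl, rfl, h3, h9⟩ := h1.resolve_left (by omega)
    obtain ⟨M, hM, hM1, hMc, hMd, hMe⟩ := psl_ev K p g
    rw [Fintype.card_fin] at hMc
    have h0 := ne_zero_of_prod_eq_one hM1
    obtain ⟨x, hx⟩ := exists_two_le_count (orderOf_pos g).ne' hMd hMe (hg ▸ dvd_mul_left _ _)
    have hx' : x ∈ M := Multiset.count_pos.1 (by omega)
    have hpx := minimalPeriod_pos_of_mem_periodicPts (periodic_of_stable hτ hM hx')
    have h4 := count_mul_period_le hτ hM x
    have h5 : minimalPeriod (tauL (Fintype.card F)) x = 1 := by nlinarith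
    have h6 : x ^ (Fintype.card F - 1) = 1 := by
      simpa using (tauL_minimalPeriod_dvd_iff hq0 (h0 x hx') 1).1 (by rw [h5])
    obtain ⟨N, rfl⟩ := Multiset.le_iff_exists_add.1 (Multiset.le_count_iff_replicate_le.1 hx)
    obtain ⟨y, rfl⟩ := Multiset.card_eq_one.1 (show N.card = 1 by simpa using hMc)
    have h7 : x * x * y = 1 := by simpa [mul_assoc] using hM1
    have h8 : x ^ 3 = y ^ 3 := by
      apply pow_injective_of_char p 1
      simpa [← pow_mul, hg] using hMe x hx' y (by simp)
    have h10 : x ^ 9 = 1 := by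
      calc x ^ 9 = (x * x) ^ 3 * x ^ 3 := by ring
        _ = (x * x * y) ^ 3 := by rw [h8]; ring
        _ = 1 := by rw [h7, one_pow]
    have h11 : x ^ 3 = 1 := by
      have h12 : Nat.gcd 9 (Fintype.card F - 1) ∣ 3 := by
        have := Nat.gcd_dvd_left 9 (Fintype.card F - 1)
        have h' := Nat.gcd_dvd_right 9 (Fintype.card F - 1)
        obtain ⟨i, hi, hi'⟩ := (Nat.dvd_prime_pow Nat.prime_three (m := 2)).1 this
        rw [hi'] at h' ⊢
        interval_cases i
        · simp
        · simp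
        · exact absurd h' h9
      obtain ⟨c, hc⟩ := h12
      rw [hc, pow_mul, pow_gcd_eq_one.2 ⟨h10, h6⟩, one_pow]
    have h13 : y = x := by
      apply mul_left_cancel₀ (mul_ne_zero (h0 x hx') (h0 x hx'))
      rw [h7, ← h11]; ring
    subst h13
    have h14 := hMd _ (div_of_pow_eq (j := 1) fun a ha b hb => by
      simp only [Multiset.mem_add, Multiset.mem_replicate, Multiset.mem_singleton] at ha hb
      rw [show a = y by tauto, show b = y by tauto])
    rw [mul_one, hg] at h14
    exact hrp ((Nat.prime_dvd_prime_iff_eq hr hp).1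
      (hr.dvd_of_dvd_pow ((dvd_mul_right _ _).trans h14)))

end Cfsg.Agent.S2470
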