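import Cfsg.Statements.S2472
import Cfsg.Agent.H5.Eta

set_option autoImplicit false
open Cfsg

namespace Cfsg.Agent.S2472

open Cfsg.Agent.H5 Function


/-- Adjacency of a prime and the characteristic in the prime graph of PSp(2n,q): let F be a finite field of characteristic p with q elements, n ≥ 2 with PSp(2n,F) simple, and let r ≠ p be an odd prime dividing the order of PSp(2n,F), with k the multiplicative order of q modulo r and η(k) = k for odd k, k/2 for even k. Then PSp(2n,F) has NO element of order r·p if and only if η(k) > n − 1. -/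
theorem result {F : Type*} [Field F] [Fintype F] (p : ℕ) [Fact p.Prime] [CharP F p] (n : ℕ) (hn : 2 ≤ n) (hsmall : n = 2 → 3 ≤ Fintype.card F)
    (r : ℕ) (hr : r.Prime) (hr2 : r ≠ 2) (hrp : r ≠ p) (hrG : r ∣ Nat.card (Cfsg.PSp n F))
    (k ηk : ℕ) (hk : k = orderOf ((Fintype.card F : ℕ) : ZMod r)) (hηk : (Odd k ∧ ηk = k) ∨ (Even k ∧ 2 * ηk = k)) :
    (r * p ∉ Set.range (orderOf : Cfsg.PSp n F → ℕ)) ↔ n - 1 < ηk := by
  classical
  obtain ⟨K, _, _, _⟩ := exists_algClosed F
  have : CharP K p := charP_ext K p F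
  have hp : p.Prime := Fact.out
  have := Fact.mk hr
  subst hk
  have hk0 := orderOf_card_pos (F := F) p hr hrp
  set q := Fintype.card F with hq
  have hη : IsEta (orderOf (q : ZMod r)) ηk := hηk
  have hφ : Injective (phi q : K → K) := phi_injective F
  have hro : r.Coprime 2 := (Nat.coprime_primes hr Nat.prime_two).2 hr2
  have hrp' : r.Coprime p := (Nat.coprime_primes hr hp).2 hrp
  constructor
  · intro hno
    by_contra hle
    apply hno
    obtain ⟨l, hl⟩ := exists_prim_root K p (m := r)
      fun h => hrp ((Nat.prime_dvd_prime_iff_eq hp hr).1 h).symm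
    have hl0 := hl.ne_zero hr.ne_zero
    refine psp_exists K p (M := sorb q l ηk + Multiset.replicate (2 * (n - ηk)) 1) ?_ ?_ ?_ ?_ ?_
    · change Multiset.map (phi q) _ = _
      rw [Multiset.map_add, sorb_stable]
      · simp [phi]
      · rw [prim_pow_eq_iff hl hr.ne_zero, prim_pow_eq_inv_iff hl hr.ne_zero, Nat.cast_pow]
        exact (hη.pow_eq hk0).imp And.right And.right
    · rw [Multiset.map_add, sorb_inv]; simp
    · rw [Multiset.prod_add, sorb_prod _ hl0]; simp
    · simp; omega
    · intro i h1 h2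
      apply hrp'.mul_dvd_of_dvd_of_dvd
      · rw [← hl.pow_eq_one_iff_dvd, h1 l (Multiset.mem_add.2 (Or.inl (self_mem_sorb _ _ (hη.pos hk0))))
          1 (Multiset.mem_add.2 (Or.inr (Multiset.mem_replicate.2 ⟨by omega, rfl⟩))), one_pow]
      · simpa using h2 1 0 (by rw [Multiset.count_add, Multiset.count_replicate_self, pow_zero]; omega)
  · rintro hlt ⟨g, hg⟩
    obtain ⟨M, hM, hMi, hM1, hMc, hMd, hMe⟩ := psp_ev K p g
    rw [hg] at hMd hMe
    have h0 : (0 : K) ∉ M := fun hx => by simp [Multiset.prod_eq_zero hx] at hM1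
    have hMr : ∀ x ∈ M, ∀ y ∈ M, x ^ r = y ^ r := fun x hx y hy =>
      pow_injective_of_char p 1 (by simpa [← pow_mul] using hMe x hx y hy)
    obtain ⟨x, hx, hx2⟩ : ∃ x ∈ M, x ^ 2 ≠ 1 := by
      by_contra hh
      push Not at hh
      have := (Dvd.intro _ rfl).trans
        (hMd _ (div_clog hp.one_lt (j := 2) fun x hx y hy => by rw [hh x hx, hh y hy]))
      exact hr.one_lt.ne' (Nat.Coprime.eq_one_of_dvd (hro.mul_right (hrp'.pow_right _)) this)
    have hx0 : x ≠ 0 := fun h => h0 (h ▸ hx)
    obtain ⟨d, hd0, hd1, hd2, hd3, -⟩ := exists_sorb hφ (periodic_of_stable hφ hM hx)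
      (fun h => hx2 (by rw [sq]; nth_rewrite 1 [← h]; exact inv_mul_cancel₀ hx0))
    obtain ⟨M2, hM2, -⟩ := exists_ssplit hφ hM hMi hx hd2 hd3
    have hprim : IsPrimitiveRoot (x ^ 2) r :=
      isPrimitiveRoot_of_prime hr (by rw [← pow_mul]; exact pow_two_mul_eq_one hMi h0 hMr x hx) hx2
    have hle := Nat.le_of_dvd hd0 (hη.dvd_of_pow hr.ne_zero hprim (pow_pow_eq_or hd1 2))
    have hc0 := Multiset.count_pos.2 hx
    have hcard : M.count x * (2 * d) + M2.card = 2 * n := by
      have := congrArg Multiset.card hM2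
      simpa [hMc] using this.symm
    have hc1 : M.count x = 1 := by
      by_contra hh
      have : 2 * (2 * d) ≤ M.count x * (2 * d) := Nat.mul_le_mul_right _ (by omega)
      omega
    rw [hc1] at hcard hM2
    obtain rfl := Multiset.card_eq_zero.1 (show M2.card = 0 by omega)
    have := hMd r (div_of_nodup hp.pos (by rw [hM2]; simpa using hd2) hMr)
    have := Nat.le_of_dvd hr.pos this
    have := hp.two_le
    have := hr.pos
    nlinarith

end Cfsg.Agent.S2472
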