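import Cfsg.Statements.S2475
import Cfsg.Agent.H2.PSL2

set_option autoImplicit false
open Cfsg

namespace Cfsg.Agent.S2475

/-- The set of element orders of PSL(2,q): let F be a finite field of characteristic p with q ≥ 4 elements and d = gcd(2, q − 1). The orders of elements of PSL(2,F) are exactly the divisors of p, of (q − 1)/d and of (q + 1)/d. -/
theorem result {F : Type*} [Field F] [Fintype F] (p : ℕ) [Fact p.Prime] [CharP F p] (h4 : 4 ≤ Fintype.card F) :
    Set.range (orderOf : Matrix.ProjectiveSpecialLinearGroup (Fin 2) F → ℕ) =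
      {m : ℕ | m ∣ p ∨ m ∣ (Fintype.card F - 1) / Nat.gcd 2 (Fintype.card F - 1) ∨ m ∣ (Fintype.card F + 1) / Nat.gcd 2 (Fintype.card F - 1)} := by
  open Cfsg.Agent.H2 in
  rw [← Nat.card_eq_fintype_card] at h4 ⊢
  ext n
  constructor
  · rintro ⟨x, rfl⟩
    exact orderOf_pj_cases p x
  · rintro (h | h | h)
    · rcases (Nat.dvd_prime Fact.out).1 h with rfl | rfl
      · exact ⟨1, orderOf_one⟩
      · exact ⟨_, unip_pow n (fun h => one_ne_zero (isScal_uSL_iff.1 h)) (not_SS_uSL (1 : F))⟩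
    · obtain ⟨g, h1, h2⟩ := exists_split h4
      obtain ⟨s, -, hs⟩ := exists_orderOf_eq_of_cyclic h1.isCyclic_map (n := n) (by rwa [card_map_Cen, h2])
      exact ⟨s, hs⟩
    · obtain ⟨g, h1, h2⟩ := exists_nonsplit' (F := F)
      obtain ⟨s, -, hs⟩ := exists_orderOf_eq_of_cyclic h1.isCyclic_map (n := n) (by rwa [card_map_Cen, h2])
      exact ⟨s, hs⟩

end Cfsg.Agent.S2475
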