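import Cfsg.Statements.S2477
import Cfsg.Agent.H3.AltOrders

set_option autoImplicit false
open Cfsg

namespace Cfsg.Agent.S2477

theorem aux (l : List ℕ) (h1 : l.sum ≤ 10) (h2 : ∀ a ∈ l, 2 ≤ a) (h3 : Even (l.sum + l.length)) :
    (l : Multiset ℕ).lcm ∈ ({1, 2, 3, 4, 5, 6, 7, 8, 9, 10, 12, 15, 21} : Finset ℕ) := by
  rcases l with _ | ⟨a, _ | ⟨b, _ | ⟨c, _ | ⟨d, _ | ⟨e, _ | ⟨f, l⟩⟩⟩⟩⟩⟩
  · decide
  · simp only [List.mem_cons, List.not_mem_nil, or_false, forall_eq, List.sum_cons,
      List.sum_nil] at h1 h2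
    have : a ≤ 10 := by omega
    interval_cases a <;> revert h3 <;> decide
  · simp only [List.mem_cons, List.not_mem_nil, or_false, forall_eq_or_imp, forall_eq,
      List.sum_cons, List.sum_nil] at h1 h2
    obtain ⟨ha, hb⟩ := h2
    have : a ≤ 8 := by omega
    interval_cases a <;> (have : b ≤ 8 := by omega) <;> interval_cases b <;>
      revert h1 h3 <;> decide
  · simp only [List.mem_cons, List.not_mem_nil, or_false, forall_eq_or_imp, forall_eq,
      List.sum_cons, List.sum_nil] at h1 h2
    obtain ⟨ha, hb, hc⟩ := h2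
    have : a ≤ 6 := by omega
    have : b ≤ 6 := by omega
    have : c ≤ 6 := by omega
    interval_cases a <;> interval_cases b <;> interval_cases c <;> revert h1 h3 <;> decide
  · simp only [List.mem_cons, List.not_mem_nil, or_false, forall_eq_or_imp, forall_eq,
      List.sum_cons, List.sum_nil] at h1 h2
    obtain ⟨ha, hb, hc, hd⟩ := h2
    have : a ≤ 4 := by omega
    have : b ≤ 4 := by omega
    have : c ≤ 4 := by omega
    have : d ≤ 4 := by omega
    interval_cases a <;> interval_cases b <;> interval_cases c <;> interval_cases d <;>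
      revert h1 h3 <;> decide
  · simp only [List.mem_cons, List.not_mem_nil, or_false, forall_eq_or_imp, forall_eq,
      List.sum_cons, List.sum_nil] at h1 h2
    obtain ⟨ha, hb, hc, hd, he⟩ := h2
    obtain rfl : a = 2 := by omega
    obtain rfl : b = 2 := by omega
    obtain rfl : c = 2 := by omega
    obtain rfl : d = 2 := by omega
    obtain rfl : e = 2 := by omega
    revert h3; decide
  · simp only [List.mem_cons, forall_eq_or_imp, List.sum_cons] at h1 h2
    omega

/-- The set of element orders of the alternating group of degree 10 is {1, 2, 3, 4, 5, 6, 7, 8, 9, 10, 12, 15, 21}. -/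
theorem result : Set.range (orderOf : alternatingGroup (Fin 10) → ℕ) = {1, 2, 3, 4, 5, 6, 7, 8, 9, 10, 12, 15, 21} := by
  ext k
  rw [H3.mem_range_orderOf_alt_iff]
  constructor
  · rintro ⟨m, h1, h2, h3, h4⟩
    induction m using Quotient.inductionOn with
    | _ l =>
      have := aux l (by simpa using h1) (by simpa using h2) (by simpa using h3)
      rw [← h4]
      simpa using this
  · intro h
    simp only [Set.mem_insert_iff, Set.mem_singleton_iff] at h
    rcases h with rfl | rfl | rfl | rfl | rfl | rfl | rfl | rfl | rfl | rfl | rfl | rfl | rfl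
    · exact ⟨0, by decide⟩
    · exact ⟨{2, 2}, by decide⟩
    · exact ⟨{3}, by decide⟩
    · exact ⟨{4, 2}, by decide⟩
    · exact ⟨{5}, by decide⟩
    · exact ⟨{6, 2}, by decide⟩
    · exact ⟨{7}, by decide⟩
    · exact ⟨{8, 2}, by decide⟩
    · exact ⟨{9}, by decide⟩
    · exact ⟨{5, 2, 2}, by decide⟩
    · exact ⟨{4, 3, 2}, by decide⟩
    · exact ⟨{5, 3}, by decide⟩
    · exact ⟨{7, 3}, by decide⟩

end Cfsg.Agent.S2477
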