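import Cfsg.Statements.S2518
import Cfsg.Agent.H8.G2Ord
import Cfsg.Agent.S2475

set_option autoImplicit false
open Cfsg Cfsg.Agent.H7 Cfsg.Agent.H8

namespace Cfsg.Agent.S2518

/-- Let F₃ be the field with 3 elements and F₁₃ the field with 13 elements. The Chevalley group G₂(F₃) and PSL(2, F₁₃) have the same prime graph: the same prime divisors of their orders, and for distinct primes r, s an element of order rs in one iff in the other. -/
theorem result {F : Type*} [Field F] [Fintype F] (hF : Fintype.card F = 3) {E : Type*} [Field E] [Fintype E] (hE : Fintype.card E = 13) :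
    ((∀ r : ℕ, r.Prime → (r ∣ Nat.card ↥(Cfsg.Lie.chevG2.group F) ↔ r ∣ Nat.card (Matrix.ProjectiveSpecialLinearGroup (Fin 2) E))) ∧
      (∀ r s : ℕ, r.Prime → s.Prime → r ≠ s → ((∃ x : ↥(Cfsg.Lie.chevG2.group F), orderOf x = r * s) ↔ (∃ y : (Matrix.ProjectiveSpecialLinearGroup (Fin 2) E), orderOf y = r * s)))) := by
  have : CharP F 3 := charP_of_card_eq_prime_pow (f := 1) hF
  have : Fact (Nat.Prime 13) := ⟨by norm_num⟩
  have : CharP E 13 := charP_of_card_eq_prime_pow (f := 1) hE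
  have h1 := fun m => Set.ext_iff.1 (S2475.result (F := E) 13 (by omega)) m
  simp only [hE, Set.mem_range, Set.mem_ofPred_eq] at h1
  have h2 : ∀ m, (∃ x : Lie.chevG2.group F, orderOf x = m) ↔ m ∣ 12 ∨ m ∣ 8 ∨ m ∣ 13 ∨ m ∣ 7 ∨ m ∣ 9 := fun m => by
    constructor
    · rintro ⟨y, rfl⟩
      rcases orderG2_dvd 3 hF y with h | h | h | h | h | ⟨h, -⟩ | ⟨-, h⟩
      any_goals tauto
      · exact Or.inl (h.trans (by norm_num))
    · rintro (h | h | h | h | h) <;> exact exists_orderOf_of_dvd (by norm_num) (orderG2_exists 3 hF (by norm_num)) h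
  have := H8.isChev_xg.finite_G (H8.GG_xg (D := Lie.chevG2) (K := F))
  have h3 : ∀ {G : Type _} [Group G] [Finite G] {r : ℕ}, r.Prime → (r ∣ Nat.card G ↔ ∃ x : G, orderOf x = r) := fun hr =>
    ⟨fun h => @exists_prime_orderOf_dvd_card' _ _ _ _ ⟨hr⟩ h, fun ⟨x, h⟩ => h ▸ orderOf_dvd_natCard x⟩
  have h4 : ∀ m, (m ∣ 12 ∨ m ∣ 8 ∨ m ∣ 13 ∨ m ∣ 7 ∨ m ∣ 9) ∨ (m ∣ 13 ∨ m ∣ 6 ∨ m ∣ 7) → m < 14 := fun m h => by
    rcases h with (h | h | h | h | h) | h | h | h <;> exact (Nat.le_of_dvd (by norm_num) h).trans_lt (by norm_num)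
  refine ⟨fun r hr => ?_, fun r s hr hs hrs => ?_⟩
  · rw [show r ∣ Nat.card (Lie.chevG2.group F) ↔ _ from ⟨fun h => @exists_prime_orderOf_dvd_card' _ _ _ _ ⟨hr⟩ h,
      fun ⟨x, h⟩ => h ▸ orderOf_dvd_natCard x⟩, h3 hr, h1, h2]
    by_cases h : r < 14
    · revert hr; revert r; decide +kernel
    · exact ⟨fun h' => absurd (h4 r (Or.inl h')) h, fun h' => absurd (h4 r (Or.inr h')) h⟩
  · rw [h1, h2]
    by_cases h : r * s < 14
    · have h5 : r < 14 := lt_of_le_of_lt (Nat.le_mul_of_pos_right r hs.pos) h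
      have h6 : s < 14 := lt_of_le_of_lt (Nat.le_mul_of_pos_left s hr.pos) h
      interval_cases r <;> interval_cases s <;> revert hr hs hrs <;> decide +kernel
    · exact ⟨fun h' => absurd (h4 _ (Or.inl h')) h, fun h' => absurd (h4 _ (Or.inr h')) h⟩

end Cfsg.Agent.S2518
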